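import Mathlib
import Cfsg.Agent.Lib.Grp.Basic
import Cfsg.Agent.Lib.Invol.Sylow

/-!
Two elementary abelian subgroups of order 16 of a Sylow 2-subgroup of order 64 and an involution whose centraliser
has order 192.
-/

set_option autoImplicit false
set_option linter.unusedSectionVars false
set_option linter.style.haveILetI false

namespace Cfsg.Agent.Fus.PlaneCentNine

open Subgroup

variable {G : Type*} [Group G] [Finite G]

/-- The configuration. -/
structure Hyp (T : Sylow 2 G) (V₁ V₂ : Subgroup G) (z ρ : G) : Prop where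
  le₁ : V₁ ≤ (T : Subgroup G)
  le₂ : V₂ ≤ (T : Subgroup G)
  card₁ : Nat.card V₁ = 16
  card₂ : Nat.card V₂ = 16
  sq₁ : ∀ v ∈ V₁, v * v = 1
  sq₂ : ∀ v ∈ V₂, v * v = 1
  cardW : Nat.card ↥(V₁ ⊓ V₂) = 4
  cardT : Nat.card (T : Subgroup G) = 64
  cen : ∀ w ∈ V₁ ⊓ V₂, ∀ x ∈ (T : Subgroup G), x * w = w * x
  inv : ∀ x ∈ (T : Subgroup G), x * x = 1 → x ∈ V₁ ∨ x ∈ V₂
  zW : z ∈ V₁ ⊓ V₂
  z1 : z ≠ 1
  conj : ∀ i : G, orderOf i = 2 → ∃ g : G, g * z * g⁻¹ = i
  cardC : Nat.card (centralizer ({z} : Set G)) = 192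
  hn : centralizer ({z} : Set G) ≤ normalizer ((T : Subgroup G) : Set G)
  ρz : ρ * z = z * ρ
  ρ3 : ρ ^ 3 = 1
  ρfix : ∀ v ∈ (T : Subgroup G), ρ * v = v * ρ → v ∈ V₁ ⊓ V₂

namespace Hyp

variable {T : Sylow 2 G} {V₁ V₂ : Subgroup G} {z ρ : G} (h : Hyp T V₁ V₂ z ρ)

include h

theorem symm : Hyp T V₂ V₁ z ρ where
  le₁ := h.le₂
  le₂ := h.le₁
  card₁ := h.card₂
  card₂ := h.card₁
  sq₁ := h.sq₂
  sq₂ := h.sq₁
  cardW := by rw [inf_comm]; exact h.cardW
  cardT := h.cardT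
  cen := fun w hw => h.cen w (by rw [inf_comm]; exact hw)
  inv := fun x hx hxx => (h.inv x hx hxx).symm
  zW := by rw [inf_comm]; exact h.zW
  z1 := h.z1
  conj := h.conj
  cardC := h.cardC
  hn := h.hn
  ρz := h.ρz
  ρ3 := h.ρ3
  ρfix := fun v hv e => by rw [inf_comm]; exact h.ρfix v hv e

theorem zz : z * z = 1 := h.sq₁ z h.zW.1

theorem orderOf_z : orderOf z = 2 := orderOf_eq_prime (by rw [pow_two, h.zz]) h.z1

theorem comm₁ {a b : G} (ha : a ∈ V₁) (hb : b ∈ V₁) : a * b = b * a := by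
  calc a * b = (a * b)⁻¹ := (inv_eq_of_mul_eq_one_left (h.sq₁ _ (mul_mem ha hb))).symm
    _ = b * a := by
      rw [mul_inv_rev, inv_eq_of_mul_eq_one_left (h.sq₁ a ha), inv_eq_of_mul_eq_one_left (h.sq₁ b hb)]

theorem order_two {v : G} (hv : v ∈ V₁) (hv1 : v ≠ 1) : orderOf v = 2 :=
  orderOf_eq_prime (by rw [pow_two, h.sq₁ v hv]) hv1

theorem ne : V₁ ≠ V₂ := fun e => by
  have := h.cardW
  rw [← e, inf_idem, h.card₁] at this
  omega

theorem exists_outer : ∃ v ∈ V₁, v ∉ V₂ := by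
  by_contra hc
  push Not at hc
  exact h.ne (Subgroup.eq_of_le_of_card_ge hc (by rw [h.card₁, h.card₂]))

/-- The two subgroups are normal in the Sylow subgroup. -/
theorem conj_mem {x v : G} (hx : x ∈ (T : Subgroup G)) (hv : v ∈ V₁) : x * v * x⁻¹ ∈ V₁ := by
  -- an element of `V₂` cannot be moved out
  have key : ∀ y ∈ V₂, y * v * y⁻¹ ∈ V₁ := by
    intro y hy
    rcases h.inv _ (mul_mem (mul_mem (h.le₂ hy) (h.le₁ hv)) (inv_mem (h.le₂ hy))) (by
      rw [show y * v * y⁻¹ * (y * v * y⁻¹) = y * (v * v) * y⁻¹ by group, h.sq₁ v hv, mul_one, mul_inv_cancel]) with e | e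
    · exact e
    · have hv2 : v ∈ V₂ := by
        have := mul_mem (mul_mem (inv_mem hy) e) hy
        rwa [show y⁻¹ * (y * v * y⁻¹) * y = v by group] at this
      rw [h.cen v ⟨hv, hv2⟩ y (h.le₂ hy), mul_inv_cancel_right]
      exact hv
  rcases h.inv _ (mul_mem (mul_mem hx (h.le₁ hv)) (inv_mem hx)) (by
      rw [show x * v * x⁻¹ * (x * v * x⁻¹) = x * (v * v) * x⁻¹ by group, h.sq₁ v hv, mul_one, mul_inv_cancel]) with e | e
  · exact e
  by_cases hv2 : v ∈ V₂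
  · rw [h.cen v ⟨hv, hv2⟩ x hx, mul_inv_cancel_right]; exact hv
  -- the conjugate of `V₁` is one of the two
  by_contra hne
  have hle : V₁.map (MulAut.conj x).toMonoidHom ≤ V₂ := by
    rintro _ ⟨w, hw, rfl⟩
    show x * w * x⁻¹ ∈ V₂
    have hinv' : ∀ u ∈ V₁, x * u * x⁻¹ ∈ V₁ ∨ x * u * x⁻¹ ∈ V₂ := fun u hu =>
      h.inv _ (mul_mem (mul_mem hx (h.le₁ hu)) (inv_mem hx)) (by
        rw [show x * u * x⁻¹ * (x * u * x⁻¹) = x * (u * u) * x⁻¹ by group, h.sq₁ u hu, mul_one, mul_inv_cancel])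
    rcases hinv' w hw with e1 | e1
    · rcases hinv' (w * v) (mul_mem hw hv) with e2 | e2
      · exfalso
        refine hne ?_
        have := mul_mem (inv_mem e1) e2
        rwa [show (x * w * x⁻¹)⁻¹ * (x * (w * v) * x⁻¹) = x * v * x⁻¹ by group] at this
      · have := mul_mem e2 (inv_mem e)
        rwa [show x * (w * v) * x⁻¹ * (x * v * x⁻¹)⁻¹ = x * w * x⁻¹ by group] at this
    · exact e1
  have heq : V₁.map (MulAut.conj x).toMonoidHom = V₂ :=
    Subgroup.eq_of_le_of_card_ge hle (by rw [card_map_of_injective (MulAut.conj x).injective, h.card₁, h.card₂])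
  -- conjugation by an element of `T` cannot send `V₁` to `V₂`
  have hnorm : V₂ ≤ normalizer (V₁ : Set G) := fun y hy => Subgroup.mem_normalizer_fintype fun u hu => by
    rcases h.inv _ (mul_mem (mul_mem (h.le₂ hy) (h.le₁ hu)) (inv_mem (h.le₂ hy))) (by
      rw [show y * u * y⁻¹ * (y * u * y⁻¹) = y * (u * u) * y⁻¹ by group, h.sq₁ u hu, mul_one, mul_inv_cancel]) with e' | e'
    · exact e'
    · have hu2 : u ∈ V₂ := by
        have := mul_mem (mul_mem (inv_mem hy) e') hy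
        rwa [show y⁻¹ * (y * u * y⁻¹) * y = u by group] at this
      rw [h.cen u ⟨hu, hu2⟩ y (h.le₂ hy), mul_inv_cancel_right]
      exact hu
  have hsup := Grp.card_sup_mul_card_inf (H := V₂) (N := V₁) hnorm
  rw [inf_comm, h.cardW, h.card₁, h.card₂] at hsup
  have hT : V₂ ⊔ V₁ = (T : Subgroup G) :=
    Subgroup.eq_of_le_of_card_ge (sup_le h.le₂ h.le₁) (by rw [h.cardT]; omega)
  have hxN : x ∈ normalizer (V₁ : Set G) :=
    (hT ▸ sup_le hnorm le_normalizer : (T : Subgroup G) ≤ normalizer (V₁ : Set G)) hx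
  exact hne ((mem_normalizer_iff.1 hxN v).1 hv)

theorem T_le_norm : (T : Subgroup G) ≤ normalizer (V₁ : Set G) :=
  fun _ hx => Subgroup.mem_normalizer_fintype fun _ hv => h.conj_mem hx hv

theorem sup_eq : V₁ ⊔ V₂ = (T : Subgroup G) := by
  have hsup := Grp.card_sup_mul_card_inf (H := V₁) (N := V₂) (h.le₁.trans h.symm.T_le_norm)
  rw [h.cardW, h.card₁, h.card₂] at hsup
  exact Subgroup.eq_of_le_of_card_ge (sup_le h.le₁ h.le₂) (by rw [h.cardT]; omega)

theorem decomp {x : G} (hx : x ∈ (T : Subgroup G)) : ∃ a ∈ V₁, ∃ b ∈ V₂, x = a * b := by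
  rw [← h.sup_eq] at hx
  have hset := Subgroup.coe_mul_of_left_le_normalizer_right V₁ V₂ (h.le₁.trans h.symm.T_le_norm)
  rw [← SetLike.mem_coe, hset] at hx
  obtain ⟨a, ha, b, hb, e⟩ := hx
  exact ⟨a, ha, b, hb, e.symm⟩

/-- A subgroup of order 16 of involutions inside `T` is one of the two. -/
theorem el16 {U : Subgroup G} (hUT : U ≤ (T : Subgroup G)) (hU : Nat.card U = 16) (hsq : ∀ u ∈ U, u * u = 1) :
    U = V₁ ∨ U = V₂ := by
  have hin : ∀ u ∈ U, u ∈ V₁ ∨ u ∈ V₂ := fun u hu => h.inv u (hUT hu) (hsq u hu)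
  by_cases h1 : ∀ u ∈ U, u ∈ V₁
  · exact Or.inl (Subgroup.eq_of_le_of_card_ge h1 (by rw [hU, h.card₁]))
  push Not at h1
  obtain ⟨u, hu, hu1⟩ := h1
  refine Or.inr (Subgroup.eq_of_le_of_card_ge (fun w hw => ?_) (by rw [hU, h.card₂]))
  rcases hin w hw with e | e
  · rcases hin _ (mul_mem hw hu) with e' | e'
    · exact absurd (by have := mul_mem (inv_mem e) e'; rwa [inv_mul_cancel_left] at this) hu1
    · have := mul_mem e' (inv_mem ((hin u hu).resolve_left hu1))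
      rwa [mul_inv_cancel_right] at this
  · exact e

/-- Two-elements normalising `T` lie in `T`. -/
theorem two_norm {Q : Subgroup G} (hQ : IsPGroup 2 Q) (hQn : Q ≤ normalizer ((T : Subgroup G) : Set G)) :
    Q ≤ (T : Subgroup G) := by
  have hp : IsPGroup 2 ↥(Q ⊔ (T : Subgroup G)) := IsPGroup.to_sup_of_normal_right' hQ T.isPGroup' hQn
  exact le_sup_left.trans (T.is_maximal' hp le_sup_right).le

theorem two_elem_norm {x : G} {k : ℕ} (hx : x ^ 2 ^ k = 1) (hxn : x ∈ normalizer ((T : Subgroup G) : Set G)) :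
    x ∈ (T : Subgroup G) := by
  obtain ⟨j, -, hj⟩ := (Nat.dvd_prime_pow Nat.prime_two).1 (orderOf_dvd_of_pow_eq_one hx)
  haveI : Fact (Nat.Prime 2) := ⟨Nat.prime_two⟩
  exact h.two_norm (Invol.isPGroup_zpowers hj) (zpowers_le.2 hxn) (mem_zpowers x)

/-- The normaliser of `T` fixes both subgroups. -/
theorem norm_T {n : G} (hn : n ∈ normalizer ((T : Subgroup G) : Set G)) : n ∈ normalizer (V₁ : Set G) := by
  classical
  have htwo : ∀ n ∈ normalizer ((T : Subgroup G) : Set G),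
      V₁.map (MulAut.conj n).toMonoidHom = V₁ ∨ V₁.map (MulAut.conj n).toMonoidHom = V₂ := by
    intro n hn
    refine h.el16 ?_ (by rw [card_map_of_injective (MulAut.conj n).injective, h.card₁]) ?_
    · rintro _ ⟨v, hv, rfl⟩; exact (mem_normalizer_iff.1 hn v).1 (h.le₁ hv)
    · rintro _ ⟨v, hv, rfl⟩
      rw [← map_mul, h.sq₁ v hv, map_one]
  have hsymm : ∀ n ∈ normalizer ((T : Subgroup G) : Set G),
      V₂.map (MulAut.conj n).toMonoidHom = V₁ ∨ V₂.map (MulAut.conj n).toMonoidHom = V₂ := by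
    intro n hn
    refine h.el16 ?_ (by rw [card_map_of_injective (MulAut.conj n).injective, h.card₂]) ?_
    · rintro _ ⟨v, hv, rfl⟩; exact (mem_normalizer_iff.1 hn v).1 (h.le₂ hv)
    · rintro _ ⟨v, hv, rfl⟩
      rw [← map_mul, h.sq₂ v hv, map_one]
  have hfix : ∀ n, V₁.map (MulAut.conj n).toMonoidHom = V₁ → n ∈ normalizer (V₁ : Set G) := fun n e =>
    Subgroup.mem_normalizer_fintype fun v hv => e.le ⟨v, hv, rfl⟩
  rcases htwo n hn with e | e
  · exact hfix n e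
  exfalso
  -- a swap
  have hinj : ∀ n : G, Function.Injective (Subgroup.map (MulAut.conj n).toMonoidHom) := fun n =>
    map_injective (MulAut.conj n).injective
  have e2 : V₂.map (MulAut.conj n).toMonoidHom = V₁ :=
    (hsymm n hn).resolve_right fun e' => h.ne (hinj n (e.trans e'.symm))
  have hmm : ∀ m k : G, ∀ U : Subgroup G, U.map (MulAut.conj (m * k)).toMonoidHom =
      (U.map (MulAut.conj k).toMonoidHom).map (MulAut.conj m).toMonoidHom := by
    intro m k U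
    rw [map_map]; congr 1; ext x; simp [mul_assoc]
  have hpow : ∀ k : ℕ, V₁.map (MulAut.conj (n ^ (2 * k + 1))).toMonoidHom = V₂ := by
    intro k
    induction k with
    | zero => simpa using e
    | succ k ih => rw [show 2 * (k + 1) + 1 = 1 + (1 + (2 * k + 1)) by ring, pow_add, pow_add, pow_one, hmm, hmm, ih, e2, e]
  obtain ⟨a, m, hm, hord⟩ := Nat.exists_eq_pow_mul_and_not_dvd (orderOf_pos n).ne' 2 (by norm_num)
  obtain ⟨k, rfl⟩ : ∃ k, m = 2 * k + 1 := ⟨m / 2, by omega⟩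
  have hy : n ^ (2 * k + 1) ∈ (T : Subgroup G) := h.two_elem_norm (k := a)
    (by rw [← pow_mul, mul_comm, ← hord, pow_orderOf_eq_one]) (pow_mem hn _)
  refine h.ne ((le_antisymm ?_ ?_ : V₁ = V₁.map (MulAut.conj (n ^ (2 * k + 1))).toMonoidHom).trans (hpow k))
  · intro v hv
    refine ⟨(n ^ (2 * k + 1))⁻¹ * v * (n ^ (2 * k + 1))⁻¹⁻¹, h.conj_mem (inv_mem hy) hv, ?_⟩
    show n ^ (2 * k + 1) * _ * (n ^ (2 * k + 1))⁻¹ = v
    group
  · rintro _ ⟨v, hv, rfl⟩; exact h.conj_mem hy hv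

theorem norm_T' : normalizer ((T : Subgroup G) : Set G) ≤ normalizer (V₁ : Set G) ⊓ normalizer (V₂ : Set G) :=
  fun _ hn => ⟨h.norm_T hn, h.symm.norm_T hn⟩

/-- Two-subgroups of `C(z)` lie in `T`. -/
theorem two_C {Q : Subgroup G} (hQ : IsPGroup 2 Q) (hQC : Q ≤ centralizer ({z} : Set G)) : Q ≤ (T : Subgroup G) :=
  h.two_norm hQ (hQC.trans h.hn)

theorem T_le_C : (T : Subgroup G) ≤ centralizer ({z} : Set G) := fun x hx =>
  mem_centralizer_singleton_iff.2 (h.cen z h.zW x hx)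

theorem not_conj (g : G) : V₁.map (MulAut.conj g).toMonoidHom ≠ V₂ := by
  intro e
  haveI : Fact (Nat.Prime 2) := ⟨Nat.prime_two⟩
  set N := normalizer (V₂ : Set G) with hN
  have hTN : (T : Subgroup G) ≤ N := h.symm.T_le_norm
  have hgT : (T : Subgroup G).map (MulAut.conj g).toMonoidHom ≤ N := by
    rintro _ ⟨x, hx, rfl⟩
    refine Subgroup.mem_normalizer_fintype fun v hv => ?_
    rw [SetLike.mem_coe, ← e] at hv
    obtain ⟨u, hu, rfl⟩ := hv
    exact e.le ⟨x * u * x⁻¹, h.conj_mem hx hu, by simp [mul_assoc]⟩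
  let S : Sylow 2 N := T.subtype hTN
  obtain ⟨m, hm⟩ := Invol.exists_conj_subset_sylow ((T.isPGroup'.map (MulAut.conj g).toMonoidHom).comap_subtype (K := N)) S
  have hmT : ((m : G) * g) ∈ normalizer ((T : Subgroup G) : Set G) := Subgroup.mem_normalizer_fintype fun x hx => by
    have := hm ⟨g * x * g⁻¹, hgT ⟨x, hx, rfl⟩⟩ ⟨x, hx, rfl⟩
    rw [show (m : G) * g * x * ((m : G) * g)⁻¹ = m * (g * x * g⁻¹) * (m : G)⁻¹ by group]
    exact this
  have h1 := h.norm_T hmT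
  obtain ⟨v, hv, hv2⟩ := h.exists_outer
  refine hv2 ?_
  have h3 := (mem_normalizer_iff''.1 h1 v).1 hv
  have h4 : g * (((m : G) * g)⁻¹ * v * ((m : G) * g)) * g⁻¹ ∈ V₂ := e.le ⟨_, h3, rfl⟩
  rw [show g * (((m : G) * g)⁻¹ * v * ((m : G) * g)) * g⁻¹ = (m : G)⁻¹ * v * m by group] at h4
  exact (mem_normalizer_iff''.1 m.2 v).2 h4

theorem exists_conj_z {u : G} (hu : u ∈ V₁) (hu1 : u ≠ 1) :
    ∃ g ∈ normalizer (V₁ : Set G), g * z * g⁻¹ = u := by
  obtain ⟨g, hg⟩ := h.conj u (h.order_two hu hu1)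
  refine ⟨g, ?_, hg⟩
  set U := V₁.map (MulAut.conj g⁻¹).toMonoidHom with hU
  have hp : IsPGroup 2 U := (IsPGroup.of_card (n := 4) (by rw [h.card₁]; norm_num) : IsPGroup 2 V₁).map _
  have hUC : U ≤ centralizer ({z} : Set G) := by
    rintro _ ⟨v, hv, rfl⟩
    refine mem_centralizer_singleton_iff.2 ?_
    show g⁻¹ * v * g⁻¹⁻¹ * z = z * (g⁻¹ * v * g⁻¹⁻¹)
    calc g⁻¹ * v * g⁻¹⁻¹ * z = g⁻¹ * (v * (g * z * g⁻¹)) * g := by group
      _ = g⁻¹ * ((g * z * g⁻¹) * v) * g := by rw [hg, h.comm₁ hv hu]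
      _ = z * (g⁻¹ * v * g⁻¹⁻¹) := by group
  rcases h.el16 (h.two_C hp hUC) (by rw [hU, card_map_of_injective (MulAut.conj g⁻¹).injective, h.card₁]) (by
      rintro _ ⟨v, hv, rfl⟩; rw [← map_mul, h.sq₁ v hv, map_one]) with e | e
  · exact inv_mem_iff.1 (Subgroup.mem_normalizer_fintype fun v hv => e.le ⟨v, hv, rfl⟩)
  · exact absurd e (h.not_conj g⁻¹)

/-- An element carrying `z` into the centre normalises `T`. -/
theorem norm_of_conj_W {g : G} (hg : g * z * g⁻¹ ∈ V₁ ⊓ V₂) : g ∈ normalizer ((T : Subgroup G) : Set G) := by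
  have hp : IsPGroup 2 ((T : Subgroup G).map (MulAut.conj g⁻¹).toMonoidHom) := T.isPGroup'.map _
  have hle := h.two_C hp (by
    rintro _ ⟨x, hx, rfl⟩
    refine mem_centralizer_singleton_iff.2 ?_
    show g⁻¹ * x * g⁻¹⁻¹ * z = z * (g⁻¹ * x * g⁻¹⁻¹)
    calc g⁻¹ * x * g⁻¹⁻¹ * z = g⁻¹ * (x * (g * z * g⁻¹)) * g := by group
      _ = g⁻¹ * ((g * z * g⁻¹) * x) * g := by rw [h.cen _ hg x hx]
      _ = z * (g⁻¹ * x * g⁻¹⁻¹) := by group)
  exact inv_mem_iff.1 (Subgroup.mem_normalizer_fintype fun x hx => hle ⟨x, hx, rfl⟩)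

theorem inf_norm : normalizer (V₁ : Set G) ⊓ normalizer (V₂ : Set G) = normalizer ((T : Subgroup G) : Set G) :=
  le_antisymm (fun _ hg => h.norm_of_conj_W
    ⟨(mem_normalizer_iff.1 hg.1 z).1 h.zW.1, (mem_normalizer_iff.1 hg.2 z).1 h.zW.2⟩) h.norm_T'

/-- A subgroup containing `C(z)` and transitive on a set of conjugates of `z`. -/
theorem card_of_orbit (K : Subgroup G) (hK : centralizer ({z} : Set G) ≤ K) (Ω : Set G)
    (hΩ : ∀ k ∈ K, k * z * k⁻¹ ∈ Ω) (htr : ∀ u ∈ Ω, ∃ k ∈ K, k * z * k⁻¹ = u) : Nat.card K = Ω.ncard * 192 := by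
  classical
  set C := (centralizer ({z} : Set G)).subgroupOf K with hC
  let F : K ⧸ C → Ω := fun c => ⟨(c.out : G) * z * (c.out : G)⁻¹, hΩ _ c.out.2⟩
  have hF : ∀ m : K, ((F (QuotientGroup.mk m)) : G) = (m : G) * z * (m : G)⁻¹ := fun m => by
    obtain ⟨k, hk⟩ := QuotientGroup.mk_out_eq_mul C m
    show ((QuotientGroup.mk m : K ⧸ _).out : G) * z * _⁻¹ = _
    rw [hk, coe_mul, mul_inv_rev, show (m : G) * ((k : K) : G) * z * (((k : K) : G)⁻¹ * (m : G)⁻¹) =
      (m : G) * (((k : K) : G) * z * ((k : K) : G)⁻¹) * (m : G)⁻¹ by group,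
      mem_centralizer_singleton_iff.1 (mem_subgroupOf.1 k.2), mul_inv_cancel_right]
  have hbij : Function.Bijective F := by
    constructor
    · intro c d e
      obtain ⟨m, rfl⟩ := QuotientGroup.mk_surjective c
      obtain ⟨m', rfl⟩ := QuotientGroup.mk_surjective d
      have e' : (m : G) * z * (m : G)⁻¹ = (m' : G) * z * (m' : G)⁻¹ := by
        rw [← hF, ← hF]; exact congrArg Subtype.val e
      rw [QuotientGroup.eq, hC, mem_subgroupOf, mem_centralizer_singleton_iff, coe_mul, coe_inv]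
      calc (m : G)⁻¹ * m' * z = (m : G)⁻¹ * ((m' : G) * z * (m' : G)⁻¹) * m' := by group
        _ = z * ((m : G)⁻¹ * m') := by rw [← e']; group
    · rintro ⟨u, hu⟩
      obtain ⟨k, hk, e⟩ := htr u hu
      exact ⟨QuotientGroup.mk ⟨k, hk⟩, Subtype.ext ((hF _).trans e)⟩
  have h1 := C.card_mul_index
  rw [index_eq_card, Nat.card_eq_of_bijective F hbij, Nat.card_coe_set_eq,
    Nat.card_congr (subgroupOfEquivOfLe hK).toEquiv, h.cardC] at h1
  rw [← h1, mul_comm]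

theorem ncard_punct {U : Subgroup G} {m : ℕ} (hU : Nat.card U = m + 1) : ((U : Set G) \ {1}).ncard = m := by
  have h1 := Set.ncard_sdiff_singleton_add_one (one_mem U : (1 : G) ∈ (U : Set G)) (Set.toFinite _)
  rw [← Nat.card_coe_set_eq (U : Set G), SetLike.coe_sort_coe, hU] at h1
  omega

theorem C_le_norm : centralizer ({z} : Set G) ≤ normalizer (V₁ : Set G) := h.hn.trans (h.norm_T'.trans inf_le_left)

theorem card_norm_T : Nat.card ↥(normalizer ((T : Subgroup G) : Set G)) = 576 := by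
  rw [h.card_of_orbit _ h.hn ((↑(V₁ ⊓ V₂) : Set G) \ {1}) (fun k hk => ?_) (fun u hu => ?_),
    h.ncard_punct (m := 3) h.cardW]
  · obtain ⟨h1, h2⟩ := h.norm_T' hk
    exact ⟨⟨(mem_normalizer_iff.1 h1 z).1 h.zW.1, (mem_normalizer_iff.1 h2 z).1 h.zW.2⟩,
      fun e => h.z1 (conj_eq_one_iff.1 e)⟩
  · obtain ⟨g, -, hg⟩ := h.exists_conj_z hu.1.1 hu.2
    exact ⟨g, h.norm_of_conj_W (hg ▸ hu.1), hg⟩

theorem card_norm : Nat.card ↥(normalizer (V₁ : Set G)) = 2880 := by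
  rw [h.card_of_orbit _ h.C_le_norm ((V₁ : Set G) \ {1}) (fun k hk => ?_) (fun u hu => ?_),
    h.ncard_punct (m := 15) h.card₁]
  · exact ⟨(mem_normalizer_iff.1 hk z).1 h.zW.1, fun e => h.z1 (conj_eq_one_iff.1 e)⟩
  · exact h.exists_conj_z hu.1 hu.2

/-- Commuting elements outside the centre lie in the same subgroup. -/
theorem comm_outer {j d : G} (hj : j ∈ V₁) (hjW : j ∉ V₂) (hd : d ∈ V₂) (hc : j * d = d * j) : d ∈ V₁ := by
  rcases h.inv _ (mul_mem (h.le₁ hj) (h.le₂ hd)) (by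
    rw [show j * d * (j * d) = j * (d * j) * d by group, ← hc, show j * (j * d) * d = (j * j) * (d * d) by group,
      h.sq₁ j hj, h.sq₂ d hd, one_mul]) with e | e
  · have := mul_mem (inv_mem hj) e
    rwa [inv_mul_cancel_left] at this
  · exact absurd (by have := mul_mem e (inv_mem hd); rwa [mul_inv_cancel_right] at this) hjW

/-- An element of `T` centralising `V₂` lies in `V₂`. -/
theorem cent_T {x : G} (hx : x ∈ (T : Subgroup G)) (hc : ∀ v ∈ V₂, x * v = v * x) : x ∈ V₂ := by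
  obtain ⟨a, ha, b, hb, rfl⟩ := h.decomp hx
  refine mul_mem ?_ hb
  by_contra ha2
  refine h.ne (Subgroup.eq_of_le_of_card_ge (fun d hd => ?_) (by rw [h.card₁, h.card₂])).symm
  refine h.comm_outer ha ha2 hd ?_
  have h1 := (show Commute (a * b) d from hc d hd).mul_left (Commute.inv_left (show Commute b d from h.symm.comm₁ hb hd))
  rwa [mul_inv_cancel_right] at h1

theorem ρ_norm : ρ ∈ normalizer ((T : Subgroup G) : Set G) := h.hn (mem_centralizer_singleton_iff.2 h.ρz)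

theorem ρ_ne : ρ ≠ 1 := fun e => by
  obtain ⟨v, hv, hv2⟩ := h.exists_outer
  exact hv2 (h.ρfix v (h.le₁ hv) (by rw [e, one_mul, mul_one])).2

theorem orderOf_ρ : orderOf ρ = 3 := orderOf_eq_prime h.ρ3 h.ρ_ne

theorem ρ_not_T : ρ ∉ (T : Subgroup G) := fun hm => by
  have h1 : orderOf ρ ∣ 64 := by
    rw [← h.cardT, ← Subgroup.orderOf_mk ρ hm]; exact orderOf_dvd_natCard _
  rw [h.orderOf_ρ] at h1
  norm_num at h1

/-- An element of order three of `C(z)` centralises no four-dimensional subgroup. -/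
theorem three_fix {y : G} (hyz : y * z = z * y) (hy3 : y ^ 3 = 1) (hy1 : y ≠ 1)
    (hfix : ∀ v ∈ V₂, y * v = v * y) : False := by
  haveI : Fact (Nat.Prime 3) := ⟨Nat.prime_three⟩
  set C := centralizer ({z} : Set G) with hC
  have hρC : ρ ∈ C := mem_centralizer_singleton_iff.2 h.ρz
  have hyC : y ∈ C := mem_centralizer_singleton_iff.2 hyz
  have hoy : orderOf y = 3 := orderOf_eq_prime hy3 hy1
  obtain ⟨R, hR⟩ : ∃ R : Sylow 3 C, zpowers (⟨ρ, hρC⟩ : C) ≤ R := IsPGroup.exists_le_sylow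
    (IsPGroup.of_card (n := 1) (by rw [Nat.card_zpowers, Subgroup.orderOf_mk, h.orderOf_ρ, pow_one]))
  have hR3 : (R : Subgroup C) = zpowers (⟨ρ, hρC⟩ : C) := by
    refine (Subgroup.eq_of_le_of_card_ge hR ?_).symm
    rw [R.card_eq_multiplicity, h.cardC, Nat.card_zpowers, Subgroup.orderOf_mk, h.orderOf_ρ,
      show (192 : ℕ) = 2 ^ 6 * 3 by norm_num, Nat.factorization_mul (by norm_num) (by norm_num), Finsupp.add_apply,
      Nat.factorization_pow, Finsupp.smul_apply, Nat.Prime.factorization_self Nat.prime_three,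
      Nat.factorization_eq_zero_of_not_dvd (by norm_num : ¬ 3 ∣ 2)]
    norm_num
  obtain ⟨c, hc⟩ := Invol.exists_conj_mem_sylow (n := 1) (x := (⟨y, hyC⟩ : C))
    (by rw [pow_one, Subgroup.orderOf_mk, hoy]) R
  replace hc := hR3.le hc
  have hcy : (c : G) * y * (c : G)⁻¹ ∈ zpowers ρ := by
    obtain ⟨i, hi⟩ := mem_zpowers_iff.1 hc
    exact mem_zpowers_iff.2 ⟨i, by simpa using congrArg Subtype.val hi⟩
  have heq : zpowers ((c : G) * y * (c : G)⁻¹) = zpowers ρ := Subgroup.eq_of_le_of_card_ge (zpowers_le.2 hcy) (by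
    rw [Nat.card_zpowers, Nat.card_zpowers, h.orderOf_ρ, Invol.orderOf_conj_eq, hoy])
  have hcV : (c : G) ∈ normalizer (V₂ : Set G) := h.symm.C_le_norm c.2
  obtain ⟨v, hv, hv1⟩ := h.symm.exists_outer
  obtain ⟨i, hi⟩ := mem_zpowers_iff.1 (heq.ge (mem_zpowers ρ))
  refine hv1 (h.ρfix v (h.le₂ hv) ?_).1
  rw [← hi]
  refine (Commute.zpow_left ?_ i).eq
  have h1 := (show Commute y ((c : G)⁻¹ * v * c) from hfix _ ((mem_normalizer_iff''.1 hcV v).1 hv))
  show (c : G) * y * (c : G)⁻¹ * v = v * ((c : G) * y * (c : G)⁻¹)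
  calc (c : G) * y * (c : G)⁻¹ * v = c * (y * ((c : G)⁻¹ * v * c)) * (c : G)⁻¹ := by group
    _ = c * (((c : G)⁻¹ * v * c) * y) * (c : G)⁻¹ := by rw [h1.eq]
    _ = v * ((c : G) * y * (c : G)⁻¹) := by group

end Hyp

end Cfsg.Agent.Fus.PlaneCentNine
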