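import Mathlib
import Cfsg.Agent.Lib.Fus.PlaneCentNine.Setup
import Cfsg.Agent.Lib.Transfer.CIT.Count

/-!
The normaliser of one of the elementary subgroups and the kernel of its action on five points.
-/

set_option autoImplicit false
set_option linter.unusedSectionVars false
set_option linter.style.haveILetI false

namespace Cfsg.Agent.Fus.PlaneCentNine

open Subgroup

variable {G : Type*} [Group G] [Finite G]

/-- The kernel of the action of `N(V)` on the cosets of `N(T)`. -/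
def core (T V : Subgroup G) : Subgroup G where
  carrier := {y | y ∈ normalizer (V : Set G) ∧ ∀ l ∈ normalizer (V : Set G), l⁻¹ * y * l ∈ normalizer (T : Set G)}
  one_mem' := ⟨one_mem _, fun l _ => by rw [mul_one, inv_mul_cancel]; exact one_mem _⟩
  inv_mem' := fun {x} hx => ⟨inv_mem hx.1, fun l hl => by
    rw [show l⁻¹ * x⁻¹ * l = (l⁻¹ * x * l)⁻¹ by group]; exact inv_mem (hx.2 l hl)⟩
  mul_mem' := fun {x y} hx hy => ⟨mul_mem hx.1 hy.1, fun l hl => by
    rw [show l⁻¹ * (x * y) * l = l⁻¹ * x * l * (l⁻¹ * y * l) by group]; exact mul_mem (hx.2 l hl) (hy.2 l hl)⟩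

theorem core_le (T V : Subgroup G) : core T V ≤ normalizer (T : Set G) := fun y hy => by
  simpa using hy.2 1 (one_mem _)

theorem core_conj {T V : Subgroup G} {l y : G} (hl : l ∈ normalizer (V : Set G)) (hy : y ∈ core T V) :
    l⁻¹ * y * l ∈ core T V :=
  ⟨mul_mem (mul_mem (inv_mem hl) hy.1) hl, fun k hk => by
    rw [show k⁻¹ * (l⁻¹ * y * l) * k = (l * k)⁻¹ * y * (l * k) by group]
    exact hy.2 _ (mul_mem hl hk)⟩

namespace Hyp

variable {T : Sylow 2 G} {V₁ V₂ : Subgroup G} {z ρ : G} (h : Hyp T V₁ V₂ z ρ)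

include h

theorem exists_move : ∃ l ∈ normalizer (V₂ : Set G), l ∉ normalizer ((T : Subgroup G) : Set G) := by
  by_contra hc
  push Not at hc
  have := Subgroup.card_le_of_le (show normalizer (V₂ : Set G) ≤ normalizer ((T : Subgroup G) : Set G) from hc)
  rw [h.symm.card_norm, h.card_norm_T] at this
  omega

/-- `V₂` is generated by the centre and any other conjugate of it. -/
theorem decomp_V {m : G} (hm : m ∈ normalizer (V₂ : Set G)) (hmH : m ∉ normalizer ((T : Subgroup G) : Set G))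
    {v : G} (hv : v ∈ V₂) : ∃ w ∈ V₁ ⊓ V₂, ∃ w' ∈ V₁ ⊓ V₂, v = w * (m * w' * m⁻¹) := by
  set W := V₁ ⊓ V₂ with hW
  set U := W.map (MulAut.conj m).toMonoidHom with hU
  have hUV : U ≤ V₂ := by
    rintro _ ⟨w, hw, rfl⟩
    exact (mem_normalizer_iff.1 hm w).1 hw.2
  have hbot : W ⊓ U = ⊥ := by
    refine (eq_bot_iff_forall _).2 ?_
    rintro y ⟨hy, w', hw', rfl⟩
    by_contra hy1
    have hw1 : w' ≠ 1 := fun e => hy1 (by rw [e, map_one])
    obtain ⟨n, -, hn⟩ := h.exists_conj_z hw'.1 hw1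
    have hn' := h.norm_of_conj_W (show n * z * n⁻¹ ∈ W from hn ▸ hw')
    refine hmH ?_
    have hmn : m * n ∈ normalizer ((T : Subgroup G) : Set G) := h.norm_of_conj_W (by
      rw [show m * n * z * (m * n)⁻¹ = m * (n * z * n⁻¹) * m⁻¹ by group, hn]
      exact hy)
    have := mul_mem hmn (inv_mem hn')
    rwa [mul_inv_cancel_right] at this
  have hnorm : W ≤ normalizer (U : Set G) := fun w hw => Subgroup.mem_normalizer_fintype fun u hu => by
    rw [SetLike.mem_coe] at hu ⊢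
    rw [h.symm.comm₁ hw.2 (hUV hu), mul_inv_cancel_right]
    exact hu
  have hcard := Grp.card_sup_mul_card_inf (H := W) (N := U) hnorm
  rw [hbot, card_bot, mul_one, hW, h.cardW, hU, card_map_of_injective (MulAut.conj m).injective, h.cardW] at hcard
  have hsup : W ⊔ U = V₂ := Subgroup.eq_of_le_of_card_ge (sup_le inf_le_right hUV) (by rw [h.card₂, hcard])
  rw [← hsup, ← SetLike.mem_coe, Subgroup.coe_mul_of_left_le_normalizer_right W U hnorm] at hv
  obtain ⟨w, hw, _, ⟨w', hw', rfl⟩, e⟩ := hv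
  exact ⟨w, hw, w', hw', e.symm⟩

theorem V_le_core : V₂ ≤ core (T : Subgroup G) V₂ := fun v hv =>
  ⟨le_normalizer hv, fun l hl => le_normalizer (h.le₂ ((mem_normalizer_iff''.1 hl v).1 hv))⟩

theorem core_T {x : G} (hx : x ∈ core (T : Subgroup G) V₂) (hxT : x ∈ (T : Subgroup G)) : x ∈ V₂ := by
  obtain ⟨l, hl, hlH⟩ := h.exists_move
  obtain ⟨n, hn⟩ : ∃ n : ℕ, x ^ 2 ^ n = 1 := by
    obtain ⟨n, hn⟩ := T.isPGroup' ⟨x, hxT⟩
    exact ⟨n, congrArg Subtype.val hn⟩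
  have hxl : l⁻¹ * x * l ∈ (T : Subgroup G) := h.two_elem_norm (k := n) (by
    have e : (l⁻¹ * x * l⁻¹⁻¹) ^ 2 ^ n = 1 := by rw [conj_pow, hn, mul_one, mul_inv_cancel]
    rwa [inv_inv] at e) (hx.2 l hl)
  refine h.cent_T hxT fun v hv => ?_
  obtain ⟨w, hw, w', hw', rfl⟩ := h.decomp_V hl hlH hv
  refine (Commute.mul_right (show Commute x w from h.cen w hw x hxT) ?_).eq
  show x * (l * w' * l⁻¹) = l * w' * l⁻¹ * x
  calc x * (l * w' * l⁻¹) = l * ((l⁻¹ * x * l) * w') * l⁻¹ := by group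
    _ = l * (w' * (l⁻¹ * x * l)) * l⁻¹ := by rw [h.cen w' hw' _ hxl]
    _ = l * w' * l⁻¹ * x := by group

theorem ρ_W {w : G} (hw : w ∈ V₁ ⊓ V₂) : ρ * w * ρ⁻¹ = w := by
  classical
  have hmem : ∀ u ∈ V₁ ⊓ V₂, ρ * u * ρ⁻¹ ∈ V₁ ⊓ V₂ := fun u hu =>
    ⟨(mem_normalizer_iff.1 (h.norm_T' h.ρ_norm).1 u).1 hu.1, (mem_normalizer_iff.1 (h.norm_T' h.ρ_norm).2 u).1 hu.2⟩
  by_contra hne
  have hfz : ρ * z * ρ⁻¹ = z := by rw [h.ρz, mul_inv_cancel_right]
  have h1 := hmem w hw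
  have h2 := hmem _ h1
  have hw1 : w ≠ 1 := fun e => hne (by rw [e, mul_one, mul_inv_cancel])
  have hwz : w ≠ z := fun e => hne (by rw [e, hfz])
  have h3 : ρ * (ρ * (ρ * w * ρ⁻¹) * ρ⁻¹) * ρ⁻¹ = w := by
    rw [show ρ * (ρ * (ρ * w * ρ⁻¹) * ρ⁻¹) * ρ⁻¹ = ρ ^ 3 * w * (ρ ^ 3)⁻¹ by
      simp only [pow_succ, pow_zero, one_mul, mul_inv_rev]; group, h.ρ3, one_mul, inv_one, mul_one]
  have hcj : ∀ u, ρ * u * ρ⁻¹ = ρ * w * ρ⁻¹ → u = w := fun u e => mul_left_cancel (mul_right_cancel e)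
  -- five distinct elements in a four-group
  have e1 : ρ * w * ρ⁻¹ ≠ 1 := fun e => hw1 (conj_eq_one_iff.1 e)
  have e2 : ρ * w * ρ⁻¹ ≠ z := fun e => hwz (hcj z (hfz.trans e.symm)).symm
  have e3 : ρ * (ρ * w * ρ⁻¹) * ρ⁻¹ ≠ 1 := fun e => e1 (conj_eq_one_iff.1 e)
  have e4 : ρ * (ρ * w * ρ⁻¹) * ρ⁻¹ ≠ z := fun e => e2 (mul_left_cancel (mul_right_cancel (e.trans hfz.symm)))
  have e5 : ρ * (ρ * w * ρ⁻¹) * ρ⁻¹ ≠ ρ * w * ρ⁻¹ := fun e => hne (hcj _ e)
  have e6 : ρ * (ρ * w * ρ⁻¹) * ρ⁻¹ ≠ w := fun e => by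
    rw [e] at h3; exact hne h3
  have hsub : ({1, z, w, ρ * w * ρ⁻¹, ρ * (ρ * w * ρ⁻¹) * ρ⁻¹} : Finset G) ⊆ ((V₁ ⊓ V₂ : Subgroup G) : Set G).toFinite.toFinset := by
    intro u hu
    rw [Set.Finite.mem_toFinset]
    simp only [Finset.mem_insert, Finset.mem_singleton] at hu
    rcases hu with rfl | rfl | rfl | rfl | rfl
    exacts [one_mem _, h.zW, hw, h1, h2]
  have hle := Finset.card_le_card hsub
  rw [← Set.ncard_eq_toFinset_card _, ← Nat.card_coe_set_eq, SetLike.coe_sort_coe, h.cardW,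
    Finset.card_insert_of_notMem (by simp [h.z1.symm, hw1.symm, e1.symm, e3.symm]),
    Finset.card_insert_of_notMem (by simp [hwz.symm, e2.symm, e4.symm]),
    Finset.card_insert_of_notMem (by simp [Ne.symm hne, e6.symm]),
    Finset.card_insert_of_notMem (by simp [e5.symm]), Finset.card_singleton] at hle
  omega

theorem ρ_not_core : ρ ∉ core (T : Subgroup G) V₂ := by
  intro hc
  obtain ⟨v, hv, hv2⟩ := h.exists_outer
  have hvn := (h.norm_T' (le_normalizer (h.le₁ hv))).2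
  set w := ρ * v * ρ⁻¹ * v⁻¹ with hw
  have hw1 : w ∈ V₁ := mul_mem ((mem_normalizer_iff.1 (h.norm_T' h.ρ_norm).1 v).1 hv) (inv_mem hv)
  have hwC : w ∈ core (T : Subgroup G) V₂ := by
    rw [hw, show ρ * v * ρ⁻¹ * v⁻¹ = ρ * (v⁻¹⁻¹ * ρ⁻¹ * v⁻¹) by group]
    exact mul_mem hc (core_conj (inv_mem hvn) (inv_mem hc))
  have hwW : w ∈ V₁ ⊓ V₂ := ⟨hw1, h.core_T hwC (h.le₁ hw1)⟩
  have hfix := h.ρ_W hwW
  have e0 : ρ * v * ρ⁻¹ = w * v := by rw [hw, inv_mul_cancel_right]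
  have e1 : ρ * (ρ * (ρ * v * ρ⁻¹) * ρ⁻¹) * ρ⁻¹ = w * w * w * v := by
    have step : ∀ u, ρ * (w * u) * ρ⁻¹ = w * (ρ * u * ρ⁻¹) := fun u => by
      rw [show ρ * (w * u) * ρ⁻¹ = (ρ * w * ρ⁻¹) * (ρ * u * ρ⁻¹) by group, hfix]
    rw [e0, step, e0, step, step, e0]; group
  rw [show ρ * (ρ * (ρ * v * ρ⁻¹) * ρ⁻¹) * ρ⁻¹ = ρ ^ 3 * v * (ρ ^ 3)⁻¹ by
      simp only [pow_succ, pow_zero, one_mul, mul_inv_rev]; group, h.ρ3, one_mul, inv_one, mul_one,
    h.sq₁ w hw1, one_mul] at e1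
  rw [right_eq_mul.1 e1, one_mul] at e0
  exact hv2 (h.ρfix v (h.le₁ hv) (mul_inv_eq_iff_eq_mul.1 e0)).2

theorem nine_core : ¬ 9 ∣ Nat.card ↥(core (T : Subgroup G) V₂) := by
  intro h9
  set N := normalizer (V₂ : Set G) with hN
  haveI hnor : ((core (T : Subgroup G) V₂).subgroupOf N).Normal := ⟨fun k hk l => by
    have := core_conj (inv_mem l.2) (mem_subgroupOf.1 hk)
    rwa [inv_inv] at this⟩
  have hle : core (T : Subgroup G) V₂ ≤ N := fun y hy => hy.1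
  have h1 := ((core (T : Subgroup G) V₂).subgroupOf N).card_mul_index
  rw [Nat.card_congr (subgroupOfEquivOfLe hle).toEquiv, hN, h.symm.card_norm] at h1
  obtain ⟨c, hc⟩ := h9
  rw [hc, mul_assoc] at h1
  have h3 : ¬ 3 ∣ ((core (T : Subgroup G) V₂).subgroupOf N).index := by
    intro hd
    have h5 : 27 ∣ 9 * (c * ((core (T : Subgroup G) V₂).subgroupOf N).index) :=
      (show 27 = 9 * 3 by norm_num) ▸ Nat.mul_dvd_mul_left 9 (Dvd.dvd.mul_left hd c)
    rw [hN] at h5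
    rw [h1] at h5
    norm_num at h5
  have hρN : ρ ∈ N := (h.norm_T' h.ρ_norm).2
  refine h.ρ_not_core ?_
  have hp := Subgroup.pow_index_mem ((core (T : Subgroup G) V₂).subgroupOf N) ⟨ρ, hρN⟩
  obtain ⟨k, hk⟩ : ∃ k, (ρ ^ ((core (T : Subgroup G) V₂).subgroupOf N).index) ^ k = ρ := by
    refine exists_pow_eq_self_of_coprime ?_
    rw [h.orderOf_ρ]
    exact ((Nat.Prime.coprime_iff_not_dvd Nat.prime_three).2 h3).symm
  rw [← hk]
  exact pow_mem hp k

theorem card_core {y : G} (hy : y ∈ core (T : Subgroup G) V₂) (hy3 : y ^ 3 = 1) (hy1 : y ≠ 1) :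
    Nat.card ↥(core (T : Subgroup G) V₂) = 48 := by
  haveI : Fact (Nat.Prime 2) := ⟨Nat.prime_two⟩
  set k := Nat.card ↥(core (T : Subgroup G) V₂) with hk
  have h16 : 16 ∣ k := h.card₂ ▸ Subgroup.card_dvd_of_le h.V_le_core
  have h576 : k ∣ 576 := h.card_norm_T ▸ Subgroup.card_dvd_of_le (core_le _ _)
  have h3 : 3 ∣ k := by
    rw [hk, ← orderOf_eq_prime (p := 3) hy3 hy1, ← Subgroup.orderOf_mk y hy]
    exact orderOf_dvd_natCard _
  have h32 : ¬ 32 ∣ k := by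
    intro hd
    obtain ⟨Q, hQ⟩ := Sylow.exists_subgroup_card_pow_prime 2 (G := ↥(core (T : Subgroup G) V₂)) (n := 5) hd
    have hle : Q.map (core (T : Subgroup G) V₂).subtype ≤ V₂ := fun x hx =>
      h.core_T (map_subtype_le _ hx) (h.two_norm
        (IsPGroup.of_card (n := 5) (by rw [card_map_of_injective (subtype_injective _)]; exact hQ))
        ((map_subtype_le _).trans (core_le _ _)) hx)
    have := Subgroup.card_le_of_le hle
    rw [card_map_of_injective (subtype_injective _), hQ, h.card₂] at this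
    norm_num at this
  have h9 := h.nine_core
  rw [← hk] at h9
  obtain ⟨m, hm⟩ := h16
  rw [hm] at h576 h3 h32 h9 ⊢
  have hm36 : m ∣ 36 := (Nat.mul_dvd_mul_iff_left (by norm_num : 0 < 16)).1 h576
  have : m ≤ 36 := Nat.le_of_dvd (by norm_num) hm36
  interval_cases m <;> omega

/-- An element of order three of the kernel commutes with an involution and acts freely on `V₂`. -/
theorem core_three {y : G} (hy : y ∈ core (T : Subgroup G) V₂) (hy3 : y ^ 3 = 1) (hy1 : y ≠ 1) :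
    ∃ s : G, orderOf s = 2 ∧ y * s = s * y := by
  classical
  set K := core (T : Subgroup G) V₂ with hK
  have hoy : orderOf y = 3 := orderOf_eq_prime hy3 hy1
  have hyV : y ∈ normalizer (V₂ : Set G) := hy.1
  have hcK := h.card_core hy hy3 hy1
  have hdisj : ∀ u ∈ V₂, u ∈ zpowers y → u = 1 := by
    intro u hu hu'
    refine orderOf_eq_one_iff.1 (Nat.eq_one_of_dvd_coprimes (show Nat.Coprime 16 3 by norm_num) ?_ ?_)
    · rw [← h.card₂, ← Subgroup.orderOf_mk u hu]; exact orderOf_dvd_natCard _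
    · rw [← hoy, ← Nat.card_zpowers y, ← Subgroup.orderOf_mk u hu']; exact orderOf_dvd_natCard _
  let Φ : V₂ × zpowers y → K := fun p => ⟨p.1 * p.2, mul_mem (h.V_le_core p.1.2) ((zpowers_le.2 hy) p.2.2)⟩
  have hΦ : Function.Bijective Φ := by
    refine Function.Injective.bijective_of_nat_card_le ?_
      (by rw [Nat.card_prod, h.card₂, Nat.card_zpowers, hoy, hcK])
    rintro ⟨⟨a, ha⟩, ⟨p, hp⟩⟩ ⟨⟨b, hb⟩, ⟨q, hq⟩⟩ e
    have e' : a * p = b * q := congrArg Subtype.val e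
    have e2 : b⁻¹ * a = q * p⁻¹ := by
      calc b⁻¹ * a = b⁻¹ * (a * p) * p⁻¹ := by group
        _ = q * p⁻¹ := by rw [e']; group
    have h1 := hdisj _ (mul_mem (inv_mem hb) ha) (e2 ▸ mul_mem hq (inv_mem hp))
    rw [h1] at e2
    exact Prod.ext (Subtype.ext (inv_mul_eq_one.1 h1).symm) (Subtype.ext (mul_inv_eq_one.1 e2.symm).symm)
  have hdec : ∀ k ∈ K, ∃ v ∈ V₂, ∃ p ∈ zpowers y, k = v * p := fun k hk => by
    obtain ⟨⟨v, p⟩, e⟩ := hΦ.2 ⟨k, hk⟩
    exact ⟨v, v.2, p, p.2, (congrArg Subtype.val e).symm⟩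
  -- free action
  have hfree : ∀ v ∈ V₂, y * v = v * y → v = 1 := by
    intro v hv hc
    by_contra hv1
    obtain ⟨g, hg, hgv⟩ := h.symm.exists_conj_z hv hv1
    have hall : ∀ l ∈ normalizer (V₂ : Set G), ∀ u ∈ V₂, y * u = u * y → y * (l * u * l⁻¹) = l * u * l⁻¹ * y := by
      intro l hl u hu huc
      obtain ⟨v', hv', p, hp, e⟩ := hdec _ (core_conj hl hy)
      obtain ⟨i, rfl⟩ := mem_zpowers_iff.1 hp
      have h1 : Commute (v' * y ^ i) u :=
        (show Commute v' u from h.symm.comm₁ hv' hu).mul_left (Commute.zpow_left (show Commute y u from huc) i)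
      calc y * (l * u * l⁻¹) = l * ((l⁻¹ * y * l) * u) * l⁻¹ := by group
        _ = l * (u * (l⁻¹ * y * l)) * l⁻¹ := by rw [e, h1.eq]
        _ = l * u * l⁻¹ * y := by group
    have hyz : y * z = z * y := by
      have := hall g⁻¹ (inv_mem hg) v hv hc
      rwa [← hgv, show g⁻¹ * (g * z * g⁻¹) * g⁻¹⁻¹ = z by group] at this
    refine h.three_fix hyz hy3 hy1 fun u hu => ?_
    by_cases hu1 : u = 1
    · rw [hu1, mul_one, one_mul]
    obtain ⟨g', hg', e⟩ := h.symm.exists_conj_z hu hu1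
    rw [← e]
    exact hall g' hg' z h.zW.2 hyz
  -- the commutator map is bijective
  have hcomm : ∀ p ∈ zpowers y, p ≠ 1 → ∀ v ∈ V₂, ∃ w ∈ V₂, v * p = w * p * w⁻¹ := by
    intro p hp hp1 v hv
    have hpV : p ∈ normalizer (V₂ : Set G) := (zpowers_le.2 hyV) hp
    have hgen : y ∈ zpowers p := by
      have h3 : orderOf p = 3 := by
        have hd : orderOf p ∣ 3 := by
          rw [← hoy, ← Nat.card_zpowers y, ← Subgroup.orderOf_mk p hp]; exact orderOf_dvd_natCard _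
        rcases (Nat.dvd_prime Nat.prime_three).1 hd with e | e
        · exact absurd (orderOf_eq_one_iff.1 e) hp1
        · exact e
      exact (Subgroup.eq_of_le_of_card_ge (zpowers_le.2 hp) (by rw [Nat.card_zpowers, Nat.card_zpowers, h3, hoy])).ge
        (mem_zpowers y)
    let Ψ : V₂ → V₂ := fun w => ⟨(w : G) * (p * (w : G)⁻¹ * p⁻¹),
      mul_mem w.2 ((mem_normalizer_iff.1 hpV _).1 (inv_mem w.2))⟩
    have hinj : Function.Injective Ψ := by
      rintro ⟨a, ha⟩ ⟨b, hb⟩ e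
      have e' : a * (p * a⁻¹ * p⁻¹) = b * (p * b⁻¹ * p⁻¹) := congrArg Subtype.val e
      have hpc : p * (b⁻¹ * a) = b⁻¹ * a * p := by
        calc p * (b⁻¹ * a) = b⁻¹ * (b * (p * b⁻¹ * p⁻¹)) * p * a := by group
          _ = b⁻¹ * a * p := by rw [← e']; group
      refine Subtype.ext (inv_mul_eq_one.1 (hfree _ (mul_mem (inv_mem hb) ha) ?_)).symm
      obtain ⟨i, hi⟩ := mem_zpowers_iff.1 hgen
      rw [← hi]
      exact (Commute.zpow_left (show Commute p (b⁻¹ * a) from hpc) i).eq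
    obtain ⟨⟨w, hw⟩, e⟩ := (hinj.bijective_of_nat_card_le le_rfl).2 ⟨v, hv⟩
    have e' : w * (p * w⁻¹ * p⁻¹) = v := congrArg Subtype.val e
    exact ⟨w, hw, by rw [← e']; group⟩
  -- the normaliser of the cyclic group
  set N := normalizer (V₂ : Set G) ⊓ normalizer ((zpowers y : Subgroup G) : Set G) with hN
  let Φ' : N × V₂ → ↥(normalizer (V₂ : Set G)) := fun p => ⟨(p.1 : G) * p.2, mul_mem p.1.2.1 (le_normalizer p.2.2)⟩
  have hinj' : Function.Injective Φ' := by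
    rintro ⟨⟨n, hn⟩, ⟨a, ha⟩⟩ ⟨⟨n', hn'⟩, ⟨b, hb⟩⟩ e
    have e' : n * a = n' * b := congrArg Subtype.val e
    have e2 : n'⁻¹ * n = b * a⁻¹ := by
      calc n'⁻¹ * n = n'⁻¹ * (n * a) * a⁻¹ := by group
        _ = b * a⁻¹ := by rw [e']; group
    have hm : b * a⁻¹ ∈ V₂ := mul_mem hb (inv_mem ha)
    have hn2 : b * a⁻¹ ∈ normalizer ((zpowers y : Subgroup G) : Set G) := e2 ▸ mul_mem (inv_mem hn'.2) hn.2
    have h1 : b * a⁻¹ * y * (b * a⁻¹)⁻¹ * y⁻¹ = 1 := hdisj _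
      (by rw [show b * a⁻¹ * y * (b * a⁻¹)⁻¹ * y⁻¹ = b * a⁻¹ * (y * (b * a⁻¹)⁻¹ * y⁻¹) by group]
          exact mul_mem hm ((mem_normalizer_iff.1 hyV _).1 (inv_mem hm)))
      (mul_mem ((mem_normalizer_iff.1 hn2 y).1 (mem_zpowers y)) (inv_mem (mem_zpowers y)))
    have h2 := hfree _ hm (mul_inv_eq_iff_eq_mul.1 (mul_inv_eq_one.1 h1)).symm
    rw [h2] at e2
    exact Prod.ext (Subtype.ext (inv_mul_eq_one.1 e2).symm) (Subtype.ext (mul_inv_eq_one.1 h2).symm)
  have hsurj' : Function.Surjective Φ' := by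
    rintro ⟨l, hl⟩
    obtain ⟨v, hv, p, hp, e⟩ := hdec _ (core_conj hl hy)
    have hp1 : p ≠ 1 := by
      intro hp1
      rw [hp1, mul_one] at e
      refine hy1 ?_
      have h3 : (l⁻¹ * y * l⁻¹⁻¹) ^ 3 = 1 := by rw [conj_pow, hy3, mul_one, mul_inv_cancel]
      rw [inv_inv, e, pow_succ, pow_two, h.sq₂ v hv, one_mul] at h3
      rw [h3] at e
      have := congrArg (fun x => l * x * l⁻¹) e
      simpa [mul_assoc] using this
    obtain ⟨w, hw, ew⟩ := hcomm p hp hp1 v hv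
    have hlw : (l * w)⁻¹ * y * (l * w) = p := by
      calc (l * w)⁻¹ * y * (l * w) = w⁻¹ * (l⁻¹ * y * l) * w := by group
        _ = p := by rw [e, ew]; group
    have hnm : (l * w)⁻¹ ∈ normalizer ((zpowers y : Subgroup G) : Set G) := Subgroup.mem_normalizer_fintype fun x hx => by
      obtain ⟨i, rfl⟩ := mem_zpowers_iff.1 hx
      rw [← conj_zpow, inv_inv, hlw]
      exact zpow_mem hp i
    exact ⟨(⟨l * w, mul_mem hl (le_normalizer hw),
      (inv_mem_iff.1 hnm : l * w ∈ normalizer ((zpowers y : Subgroup G) : Set G))⟩, ⟨w⁻¹, inv_mem hw⟩),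
      Subtype.ext (mul_inv_cancel_right l w)⟩
  have hNc : Nat.card N = 180 := by
    have := Nat.card_eq_of_bijective Φ' ⟨hinj', hsurj'⟩
    rw [Nat.card_prod, h.card₂, h.symm.card_norm] at this
    omega
  set C := centralizer ({y} : Set G) with hC
  let Θ : N ⧸ C.subgroupOf N → ↥({y, y⁻¹} : Set G) := fun c => ⟨(c.out : G) * y * (c.out : G)⁻¹, by
    have hm := (mem_normalizer_iff.1 c.out.2.2 y).1 (mem_zpowers y)
    obtain ⟨j, hj, e⟩ : ∃ j < 3, y ^ j = (c.out : G) * y * (c.out : G)⁻¹ := by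
      obtain ⟨j, hj⟩ := mem_powers_iff_mem_zpowers.2 hm
      exact ⟨j % 3, Nat.mod_lt _ (by norm_num), by rw [← hoy, pow_mod_orderOf]; exact hj⟩
    rw [← e]
    interval_cases j
    · exact absurd (conj_eq_one_iff.1 ((pow_zero y).symm.trans e).symm) hy1
    · exact Or.inl (pow_one y)
    · exact Or.inr (eq_inv_of_mul_eq_one_left (by rw [← pow_succ, hy3]))⟩
  have hΘ : Function.Injective Θ := by
    intro c d e
    have e' : (c.out : G) * y * (c.out : G)⁻¹ = (d.out : G) * y * (d.out : G)⁻¹ := congrArg Subtype.val e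
    rw [← QuotientGroup.out_eq' c, ← QuotientGroup.out_eq' d, QuotientGroup.eq, mem_subgroupOf]
    refine mem_centralizer_singleton_iff.2 ?_
    rw [coe_mul, coe_inv]
    calc (c.out : G)⁻¹ * d.out * y = (c.out : G)⁻¹ * ((d.out : G) * y * (d.out : G)⁻¹) * d.out := by group
      _ = y * ((c.out : G)⁻¹ * d.out) := by rw [← e']; group
  have h2le : (C.subgroupOf N).index ≤ 2 := by
    rw [index_eq_card]
    refine (Nat.card_le_card_of_injective Θ hΘ).trans ?_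
    rw [Nat.card_coe_set_eq]
    exact (Set.ncard_insert_le _ _).trans (by simp)
  have hmul := (C.subgroupOf N).card_mul_index
  rw [hNc] at hmul
  have heven : Even (Nat.card ↥(C.subgroupOf N)) := by
    by_contra hodd
    rcases Nat.eq_zero_or_pos (C.subgroupOf N).index with e0 | e0
    · rw [e0] at hmul; omega
    · interval_cases (C.subgroupOf N).index
      · rw [mul_one] at hmul; exact hodd (by rw [hmul]; decide)
      · exact hodd (by rw [show Nat.card ↥(C.subgroupOf N) = 90 by omega]; decide)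
  obtain ⟨s, hs⟩ := exists_prime_orderOf_dvd_card' (G := ↥(C.subgroupOf N)) 2 (even_iff_two_dvd.1 heven)
  exact ⟨((s : N) : G), by rw [Subgroup.orderOf_coe, Subgroup.orderOf_coe]; exact hs,
    (mem_centralizer_singleton_iff.1 (mem_subgroupOf.1 s.2)).symm⟩

/-- The elements of order three of `C(z)` are not inverted. -/
theorem not_real (g : G) : g * ρ * g⁻¹ ≠ ρ⁻¹ := by
  intro hg
  haveI : Fact (Nat.Prime 2) := ⟨Nat.prime_two⟩
  set C := centralizer ({ρ} : Set G) with hC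
  set W := V₁ ⊓ V₂ with hW
  have hWC : W ≤ C := fun w hw => mem_centralizer_singleton_iff.2 (mul_inv_eq_iff_eq_mul.1 (h.ρ_W hw)).symm
  have hWp : IsPGroup 2 (W.subgroupOf C) :=
    (IsPGroup.of_card (n := 2) (by rw [h.cardW]; norm_num) : IsPGroup 2 W).comap_subtype
  obtain ⟨S, hS⟩ := hWp.exists_le_sylow
  have hSW : (S : Subgroup C) = W.subgroupOf C := by
    by_contra hne
    have hnc : Group.IsNilpotent ↥(S : Subgroup C) := S.isPGroup'.isNilpotent
    have hlt : (W.subgroupOf C).subgroupOf (S : Subgroup C) < ⊤ := by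
      rw [lt_top_iff_ne_top]
      exact fun e => hne (le_antisymm (subgroupOf_eq_top.1 e) hS)
    obtain ⟨⟨q, hqS⟩, hq1, hq2⟩ :=
      SetLike.exists_of_lt (normalizerCondition_of_isNilpotent (G := ↥(S : Subgroup C)) _ hlt)
    have hqW : (q : G) * z * (q : G)⁻¹ ∈ W :=
      (mem_normalizer_iff.1 hq1 ⟨⟨z, hWC h.zW⟩, hS h.zW⟩).1 h.zW
    obtain ⟨k, hk⟩ := S.isPGroup' ⟨q, hqS⟩
    have hqT := h.two_elem_norm (k := k) (congrArg (fun x : ↥(S : Subgroup C) => ((x : C) : G)) hk)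
      (h.norm_of_conj_W hqW)
    exact hq2 (h.ρfix _ hqT (mem_centralizer_singleton_iff.1 q.2).symm)
  have hgC : ∀ x ∈ C, g * x * g⁻¹ ∈ C := fun x hx => by
    refine mem_centralizer_singleton_iff.2 ?_
    have h1 := (Commute.inv_right (show Commute x ρ from mem_centralizer_singleton_iff.1 hx)).eq
    have e : g * ρ⁻¹ * g⁻¹ = ρ := by
      rw [show g * ρ⁻¹ * g⁻¹ = (g * ρ * g⁻¹)⁻¹ by group, hg, inv_inv]
    calc g * x * g⁻¹ * ρ = g * (x * ρ⁻¹) * g⁻¹ := by nth_rewrite 1 [← e]; group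
      _ = g * (ρ⁻¹ * x) * g⁻¹ := by rw [h1]
      _ = g * ρ⁻¹ * g⁻¹ * (g * x * g⁻¹) := by group
      _ = ρ * (g * x * g⁻¹) := by rw [e]
  obtain ⟨c, hc⟩ := Invol.exists_conj_subset_sylow
    (((IsPGroup.of_card (n := 2) (by rw [h.cardW]; norm_num) : IsPGroup 2 W).map
      (MulAut.conj g).toMonoidHom).comap_subtype (K := C)) S
  have hm : (c : G) * g * z * ((c : G) * g)⁻¹ ∈ W := by
    have h1 := hSW.le (hc ⟨g * z * g⁻¹, hgC z (hWC h.zW)⟩ ⟨z, h.zW, rfl⟩)
    rw [show (c : G) * g * z * ((c : G) * g)⁻¹ = (c : G) * (g * z * g⁻¹) * (c : G)⁻¹ by group]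
    exact h1
  have hnT := h.norm_of_conj_W hm
  set N := normalizer ((T : Subgroup G) : Set G) with hN
  set TN := (T : Subgroup G).subgroupOf N with hTN
  haveI : TN.Normal := Subgroup.normal_in_normalizer
  have hcTN : Nat.card (N ⧸ TN) = 3 ^ 2 := by
    have h1 := TN.card_mul_index
    have h0 : Nat.card N = 576 := h.card_norm_T
    rw [index_eq_card, hTN, Nat.card_congr (subgroupOfEquivOfLe le_normalizer).toEquiv, h.cardT, h0] at h1
    rw [hTN]
    omega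
  haveI : Fact (Nat.Prime 3) := ⟨Nat.prime_three⟩
  have hcm := IsPGroup.commutative_of_card_eq_prime_sq hcTN
  set a : N := ⟨(c : G) * g, hnT⟩
  set r : N := ⟨ρ, h.ρ_norm⟩
  have h1 : a * r * a⁻¹ * r⁻¹ ∈ TN := by
    rw [← QuotientGroup.eq_one_iff, QuotientGroup.mk_mul, QuotientGroup.mk_mul, QuotientGroup.mk_mul,
      QuotientGroup.mk_inv, QuotientGroup.mk_inv, hcm (QuotientGroup.mk a), mul_inv_cancel_right, mul_inv_cancel]
  refine h.ρ_not_T ?_
  have hcc := mem_centralizer_singleton_iff.1 c.2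
  have e : ((a * r * a⁻¹ * r⁻¹ : N) : G) = ρ := by
    show (c : G) * g * ρ * ((c : G) * g)⁻¹ * ρ⁻¹ = ρ
    rw [show (c : G) * g * ρ * ((c : G) * g)⁻¹ = (c : G) * (g * ρ * g⁻¹) * (c : G)⁻¹ by group, hg,
      (Commute.inv_right (show Commute (c : G) ρ from hcc)).eq, mul_inv_cancel_right]
    rw [← mul_inv_rev]
    exact inv_eq_of_mul_eq_one_right (by rw [← pow_two, ← pow_succ, h.ρ3])
  exact e ▸ mem_subgroupOf.1 h1

/-- Elements of order three of the kernel are not inverted. -/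
theorem core_not_real {y u : G} (hy : y ∈ core (T : Subgroup G) V₂) (hy3 : y ^ 3 = 1) (hy1 : y ≠ 1)
    (hu : u * y * u⁻¹ = y⁻¹) : False := by
  obtain ⟨s, hs, hys⟩ := h.core_three hy hy3 hy1
  obtain ⟨g, hg⟩ := h.conj s hs
  set y' := g⁻¹ * y * g with hy'
  have hy'z : y' * z = z * y' := by
    calc g⁻¹ * y * g * z = g⁻¹ * (y * (g * z * g⁻¹)) * g := by group
      _ = g⁻¹ * ((g * z * g⁻¹) * y) * g := by rw [hg, hys]
      _ = z * (g⁻¹ * y * g) := by group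
  set C := centralizer ({z} : Set G) with hC
  haveI : Fact (Nat.Prime 3) := ⟨Nat.prime_three⟩
  have hρC : ρ ∈ C := mem_centralizer_singleton_iff.2 h.ρz
  have hy'C : y' ∈ C := mem_centralizer_singleton_iff.2 hy'z
  obtain ⟨R, hR⟩ : ∃ R : Sylow 3 C, zpowers (⟨ρ, hρC⟩ : C) ≤ R := IsPGroup.exists_le_sylow
    (IsPGroup.of_card (n := 1) (by rw [Nat.card_zpowers, Subgroup.orderOf_mk, h.orderOf_ρ, pow_one]))
  have hR3 : (R : Subgroup C) = zpowers (⟨ρ, hρC⟩ : C) := by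
    refine (Subgroup.eq_of_le_of_card_ge hR ?_).symm
    rw [R.card_eq_multiplicity, h.cardC, Nat.card_zpowers, Subgroup.orderOf_mk, h.orderOf_ρ,
      show (192 : ℕ) = 2 ^ 6 * 3 by norm_num, Nat.factorization_mul (by norm_num) (by norm_num), Finsupp.add_apply,
      Nat.factorization_pow, Finsupp.smul_apply, Nat.Prime.factorization_self Nat.prime_three,
      Nat.factorization_eq_zero_of_not_dvd (by norm_num : ¬ 3 ∣ 2)]
    norm_num
  have hoy' : orderOf y' = 3 := by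
    rw [hy', show g⁻¹ * y * g = g⁻¹ * y * g⁻¹⁻¹ by group, Invol.orderOf_conj_eq]
    exact orderOf_eq_prime hy3 hy1
  obtain ⟨c, hc⟩ := Invol.exists_conj_mem_sylow (n := 1) (x := (⟨y', hy'C⟩ : C))
    (by rw [pow_one, Subgroup.orderOf_mk, hoy']) R
  replace hc := hR3.le hc
  obtain ⟨i, hi⟩ := mem_zpowers_iff.1 hc
  have hi' : ρ ^ i = (c : G) * y' * (c : G)⁻¹ := by simpa using congrArg Subtype.val hi
  have hmem : ρ ∈ zpowers ((c : G) * y' * (c : G)⁻¹) := (Subgroup.eq_of_le_of_card_ge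
    (zpowers_le.2 (mem_zpowers_iff.2 ⟨i, hi'⟩)) (by
      rw [Nat.card_zpowers, Nat.card_zpowers, h.orderOf_ρ, Invol.orderOf_conj_eq, hoy'])).ge (mem_zpowers ρ)
  obtain ⟨j, hj⟩ := mem_zpowers_iff.1 hmem
  have hinv : ∃ k : G, k * ((c : G) * y' * (c : G)⁻¹) * k⁻¹ = ((c : G) * y' * (c : G)⁻¹)⁻¹ := by
    refine ⟨(c : G) * g⁻¹ * u * ((c : G) * g⁻¹)⁻¹, ?_⟩
    calc (c : G) * g⁻¹ * u * ((c : G) * g⁻¹)⁻¹ * ((c : G) * y' * (c : G)⁻¹) *
          ((c : G) * g⁻¹ * u * ((c : G) * g⁻¹)⁻¹)⁻¹ = (c : G) * g⁻¹ * (u * y * u⁻¹) * ((c : G) * g⁻¹)⁻¹ := by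
          rw [hy']; group
      _ = ((c : G) * y' * (c : G)⁻¹)⁻¹ := by rw [hu, hy']; group
  obtain ⟨k, hk⟩ := hinv
  refine h.not_real k ?_
  rw [← hj, ← conj_zpow, hk, inv_zpow]

end Hyp

end Cfsg.Agent.Fus.PlaneCentNine
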