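import Mathlib
import Cfsg.Agent.Lib.Fus.PlaneCentNine.Parabolic

/-!
Involutions of the normaliser of an elementary subgroup.
-/

set_option autoImplicit false
set_option linter.unusedSectionVars false
set_option linter.style.haveILetI false

namespace Cfsg.Agent.Fus.PlaneCentNine

open Subgroup

variable {G : Type*} [Group G] [Finite G]

namespace Hyp

variable {T : Sylow 2 G} {V₁ V₂ : Subgroup G} {z ρ : G} (h : Hyp T V₁ V₂ z ρ)

include h

theorem invol_norm_T {i : G} (hi : i ∈ normalizer ((T : Subgroup G) : Set G)) (hi2 : orderOf i = 2) :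
    i ∈ V₁ ∨ i ∈ V₂ := by
  have hii : i * i = 1 := by rw [← pow_two, ← hi2, pow_orderOf_eq_one]
  exact h.inv i (h.two_elem_norm (k := 1) (by rw [pow_one, pow_two]; exact hii) hi) hii

/-- An involution of `N(V₂)` outside `V₂` is conjugate into `V₁`. -/
theorem invol_out {i : G} (hi : i ∈ normalizer (V₂ : Set G)) (hi2 : orderOf i = 2) (hn : i ∉ V₂) :
    ∃ g ∈ normalizer (V₂ : Set G), g⁻¹ * i * g ∈ V₁ ∧ g⁻¹ * i * g ∉ V₂ := by
  have hii : i * i = 1 := by rw [← pow_two, ← hi2, pow_orderOf_eq_one]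
  obtain ⟨d, hd, hd1, hid⟩ : ∃ d ∈ V₂, d ≠ 1 ∧ i * d = d * i := by
    by_cases hc : i * z = z * i
    · exact ⟨z, h.zW.2, h.z1, hc⟩
    have hm : i * z * i⁻¹ ∈ V₂ := (mem_normalizer_iff.1 hi z).1 h.zW.2
    rw [inv_eq_of_mul_eq_one_right hii] at hm
    refine ⟨z * (i * z * i), mul_mem h.zW.2 hm, fun e => hc ?_, ?_⟩
    · have h1 : i * z * i = z := (inv_eq_of_mul_eq_one_right e).symm.trans (inv_eq_of_mul_eq_one_right h.zz)
      calc i * z = i * z * i * i := by rw [mul_assoc (i * z), hii, mul_one]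
        _ = z * i := by rw [h1]
    · calc i * (z * (i * z * i)) = (i * z * i) * z * i := by group
        _ = z * (i * z * i) * i := by rw [h.symm.comm₁ h.zW.2 hm]
  obtain ⟨g, hg, hgz⟩ := h.symm.exists_conj_z hd hd1
  have hjz : g⁻¹ * i * g * z = z * (g⁻¹ * i * g) := by
    calc g⁻¹ * i * g * z = g⁻¹ * (i * (g * z * g⁻¹)) * g := by group
      _ = g⁻¹ * ((g * z * g⁻¹) * i) * g := by rw [hgz, hid]
      _ = z * (g⁻¹ * i * g) := by group
  have hjj : g⁻¹ * i * g * (g⁻¹ * i * g) = 1 := by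
    rw [show g⁻¹ * i * g * (g⁻¹ * i * g) = g⁻¹ * (i * i) * g by group, hii, mul_one, inv_mul_cancel]
  have hjV : g⁻¹ * i * g ∉ V₂ := fun e => hn ((mem_normalizer_iff''.1 hg i).2 e)
  have hjT := h.two_elem_norm (k := 1) (by rw [pow_one, pow_two]; exact hjj)
    (h.hn (mem_centralizer_singleton_iff.2 hjz))
  exact ⟨g, hg, (h.inv _ hjT hjj).resolve_right hjV, hjV⟩

theorem index_stab : Nat.card (↥(normalizer (V₂ : Set G)) ⧸
    (normalizer ((T : Subgroup G) : Set G)).subgroupOf (normalizer (V₂ : Set G))) = 5 := by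
  have h1 := card_mul_index ((normalizer ((T : Subgroup G) : Set G)).subgroupOf (normalizer (V₂ : Set G)))
  rw [index_eq_card, Nat.card_congr (subgroupOfEquivOfLe (h.norm_T'.trans inf_le_right)).toEquiv, h.card_norm_T,
    h.symm.card_norm] at h1
  omega

theorem card_invol : Nat.card {i : G // orderOf i = 2 ∧ i ∈ normalizer (V₂ : Set G)} = 75 := by
  classical
  set L := normalizer (V₂ : Set G) with hL
  set H := (normalizer ((T : Subgroup G) : Set G)).subgroupOf L with hH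
  let f : {v : G // v ∈ V₂ ∧ v ≠ 1} ⊕ ((L ⧸ H) × {a : G // a ∈ V₁ ∧ a ∉ V₂}) → {i : G // orderOf i = 2 ∧ i ∈ L} :=
    Sum.elim (fun v => ⟨v, h.symm.order_two v.2.1 v.2.2, le_normalizer v.2.1⟩)
      (fun p => ⟨(p.1.out : G) * p.2 * (p.1.out : G)⁻¹, by
        rw [Invol.orderOf_conj_eq]
        exact h.order_two p.2.2.1 (fun e => p.2.2.2 (e ▸ one_mem V₂)),
        mul_mem (mul_mem p.1.out.2 (h.symm.T_le_norm (h.le₁ p.2.2.1))) (inv_mem p.1.out.2)⟩)
  have hout : ∀ (y : L) (a : G), a ∉ V₂ → (y : G) * a * (y : G)⁻¹ ∉ V₂ := fun y a ha e =>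
    ha ((mem_normalizer_iff.1 y.2 a).2 e)
  have hf : Function.Bijective f := by
    constructor
    · rintro (v | ⟨c, a⟩) (v' | ⟨c', a'⟩) e
      · exact congrArg Sum.inl (Subtype.ext (congrArg Subtype.val e :))
      · have e' : (v : G) = (c'.out : G) * a' * (c'.out : G)⁻¹ := congrArg Subtype.val e
        exact absurd (e' ▸ v.2.1) (hout c'.out a' a'.2.2)
      · have e' : (c.out : G) * a * (c.out : G)⁻¹ = (v' : G) := congrArg Subtype.val e
        exact absurd (e'.symm ▸ v'.2.1) (hout c.out a a.2.2)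
      · have e' : (c.out : G) * a * (c.out : G)⁻¹ = c'.out * a' * (c'.out : G)⁻¹ := congrArg Subtype.val e
        set u : G := (c'.out : G)⁻¹ * c.out with hu
        have hua : u * a * u⁻¹ = a' := by
          calc u * a * u⁻¹ = (c'.out : G)⁻¹ * ((c.out : G) * a * (c.out : G)⁻¹) * c'.out := by rw [hu]; group
            _ = a' := by rw [e']; group
        have huL : u ∈ L := L.mul_mem (L.inv_mem c'.out.2) c.out.2
        have huz : u * z * u⁻¹ ∈ V₁ ⊓ V₂ := by
          have hm : u * z * u⁻¹ ∈ V₂ := (mem_normalizer_iff.1 huL z).1 h.zW.2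
          refine ⟨h.comm_outer a'.2.1 a'.2.2 hm ?_, hm⟩
          rw [← hua]
          calc u * a * u⁻¹ * (u * z * u⁻¹) = u * ((a : G) * z) * u⁻¹ := by group
            _ = u * (z * (a : G)) * u⁻¹ := by rw [h.cen z h.zW _ (h.le₁ a.2.1)]
            _ = u * z * u⁻¹ * (u * a * u⁻¹) := by group
        have hcc : c' = c := by
          rw [← QuotientGroup.out_eq' c', ← QuotientGroup.out_eq' c, QuotientGroup.eq]
          exact mem_subgroupOf.2 (h.norm_of_conj_W huz)
        subst hcc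
        rw [show a = a' from Subtype.ext (mul_left_cancel (mul_right_cancel e'))]
    · rintro ⟨i, hi2, hi⟩
      by_cases hiV : i ∈ V₂
      · exact ⟨Sum.inl ⟨i, hiV, Invol.ne_one_of_orderOf_two hi2⟩, rfl⟩
      obtain ⟨g, hg, hgA, hgV⟩ := h.invol_out hi hi2 hiV
      set c : L ⧸ H := QuotientGroup.mk ⟨g, hg⟩ with hc
      obtain ⟨r, hr⟩ := QuotientGroup.mk_out_eq_mul H (⟨g, hg⟩ : L)
      have hrT : ((r : L) : G) ∈ normalizer ((T : Subgroup G) : Set G) := mem_subgroupOf.1 r.2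
      have hr1 := h.norm_T' hrT
      refine ⟨Sum.inr (c, ⟨((r : L) : G)⁻¹ * (g⁻¹ * i * g) * ((r : L) : G),
        (mem_normalizer_iff''.1 hr1.1 _).1 hgA, fun e => hgV ((mem_normalizer_iff''.1 hr1.2 _).2 e)⟩), Subtype.ext ?_⟩
      show (c.out : G) * _ * (c.out : G)⁻¹ = i
      rw [hc, hr]
      push_cast
      group
  rw [← Nat.card_eq_of_bijective f hf, Nat.card_sum, Nat.card_prod, h.index_stab]
  have h1 := Transfer.CIT.card_ne_one V₂
  have h2 := Transfer.CIT.card_notMem V₁ V₂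
  rw [h.card₂] at h1
  rw [h.cardW, h.card₁] at h2
  omega

theorem card_invol_T : Nat.card {i : G // orderOf i = 2 ∧ i ∈ normalizer ((T : Subgroup G) : Set G)} = 27 := by
  classical
  let f : {v : G // v ∈ V₂ ∧ v ≠ 1} ⊕ {a : G // a ∈ V₁ ∧ a ∉ V₂} →
      {i : G // orderOf i = 2 ∧ i ∈ normalizer ((T : Subgroup G) : Set G)} :=
    Sum.elim (fun v => ⟨v, h.symm.order_two v.2.1 v.2.2, le_normalizer (h.le₂ v.2.1)⟩)
      (fun a => ⟨a, h.order_two a.2.1 (fun e => a.2.2 (e ▸ one_mem V₂)), le_normalizer (h.le₁ a.2.1)⟩)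
  have hf : Function.Bijective f := by
    constructor
    · rintro (v | a) (v' | a') e
      · exact congrArg Sum.inl (Subtype.ext (congrArg Subtype.val e :))
      · exact absurd ((congrArg Subtype.val e :) ▸ v.2.1) a'.2.2
      · exact absurd ((congrArg Subtype.val e :).symm ▸ v'.2.1) a.2.2
      · exact congrArg Sum.inr (Subtype.ext (congrArg Subtype.val e :))
    · rintro ⟨i, hi2, hi⟩
      by_cases hiV : i ∈ V₂
      · exact ⟨Sum.inl ⟨i, hiV, Invol.ne_one_of_orderOf_two hi2⟩, rfl⟩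
      · exact ⟨Sum.inr ⟨i, (h.invol_norm_T hi hi2).resolve_right hiV, hiV⟩, rfl⟩
  rw [← Nat.card_eq_of_bijective f hf, Nat.card_sum]
  have h1 := Transfer.CIT.card_ne_one V₂
  have h2 := Transfer.CIT.card_notMem V₁ V₂
  rw [h.card₂] at h1
  rw [h.cardW, h.card₁] at h2
  omega

end Hyp

end Cfsg.Agent.Fus.PlaneCentNine
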