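import Mathlib
import Cfsg.Agent.Lib.Fus.PlaneCentNine.Count
import Cfsg.Agent.Lib.Spor.M21Psl
import Cfsg.Agent.Lib.Transfer.CIT.Plane

/-!
The configuration gives a plane of order four on which the group acts with order 60480.
-/

set_option autoImplicit false
set_option linter.style.haveILetI false
set_option linter.unusedSectionVars false

open scoped Pointwise

universe u

namespace Cfsg.Agent.Fus.PlaneCentNine

open Cfsg.Agent Subgroup Cfsg

section generic

/-- In a group of order 15 or 45 an element of order five is central. -/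
theorem central_five {K : Type*} [Group K] [Finite K] (hK : Nat.card K = 15 ∨ Nat.card K = 45) {x : K}
    (hx : orderOf x = 5) (k : K) : k * x = x * k := by
  classical
  haveI : Fact (Nat.Prime 5) := ⟨by norm_num⟩
  obtain ⟨S, hS⟩ := (IsPGroup.of_card (n := 1) (by rw [Nat.card_zpowers, hx, pow_one]) :
    IsPGroup 5 (zpowers x)).exists_le_sylow
  have hmult : Nat.card S = 5 := by
    have h1 := S.not_dvd_index
    have h2 := (S : Subgroup K).card_mul_index
    obtain ⟨n, hn⟩ := S.isPGroup'.exists_card_eq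
    rw [hn] at h2
    have hn1 : n = 1 := by
      have hge : 5 ≤ Nat.card S := by
        have := Subgroup.card_le_of_le hS
        rwa [Nat.card_zpowers, hx] at this
      have hd : 5 ^ n ∣ Nat.card K := ⟨_, h2.symm⟩
      have hle : 5 ^ n ≤ 45 := (Nat.le_of_dvd Nat.card_pos hd).trans (by omega)
      have hn3 : n < 3 := by
        by_contra hc
        push Not at hc
        have := (Nat.pow_le_pow_right (by norm_num : 0 < 5) hc).trans hle
        norm_num at this
      interval_cases n
      · rw [hn] at hge; norm_num at hge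
      · rfl
      · rcases hK with e | e <;> rw [e] at hd <;> norm_num at hd
    rw [hn, hn1, pow_one]
  have heq : zpowers x = (S : Subgroup K) :=
    Subgroup.eq_of_le_of_card_ge hS (by rw [hmult, Nat.card_zpowers, hx])
  have huniq : Nat.card (Sylow 5 K) = 1 := by
    have h1 := card_sylow_modEq_one 5 K
    have h2 := S.card_dvd_index
    have h3 := (S : Subgroup K).card_mul_index
    rw [hmult] at h3
    unfold Nat.ModEq at h1
    have hidx : (S : Subgroup K).index = 3 ∨ (S : Subgroup K).index = 9 := by omega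
    rcases hidx with e | e <;> rw [e] at h2
    · have := Nat.le_of_dvd (show 0 < 3 by norm_num) h2; omega
    · have := Nat.le_of_dvd (show 0 < 9 by norm_num) h2
      interval_cases hS5 : Nat.card (Sylow 5 K) <;> omega
  have hm : k * x * k⁻¹ ∈ zpowers x := by
    have h1 : k • S = S := (Nat.card_eq_one_iff_unique.1 huniq).1.elim _ _
    have h2 : k * x * k⁻¹ ∈ ((k • S : Sylow 5 K) : Subgroup K) := ⟨x, hS (mem_zpowers x), rfl⟩
    rw [h1, ← heq] at h2
    exact h2
  obtain ⟨i, hi⟩ : ∃ i : ℕ, x ^ i = k * x * k⁻¹ := (mem_powers_iff_mem_zpowers).2 hm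
  have hiter : ∀ m : ℕ, k ^ m * x * (k ^ m)⁻¹ = x ^ (i ^ m) := by
    intro m
    induction m with
    | zero => simp
    | succ m ih =>
      rw [pow_succ' k, show k * k ^ m * x * (k * k ^ m)⁻¹ = k * (k ^ m * x * (k ^ m)⁻¹) * k⁻¹ by group, ih,
        ← conj_pow, ← hi, ← pow_mul, ← pow_succ']
  have h45 : k ^ 45 = 1 := by
    obtain ⟨c, hc⟩ : Nat.card K ∣ 45 := by rcases hK with e | e <;> rw [e] <;> norm_num
    rw [hc, pow_mul, pow_card_eq_one', one_pow]
  have h1 : x ^ (i ^ 45 % 5) = x ^ 1 := by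
    rw [← hx, pow_mod_orderOf, pow_one, ← hiter, h45]; group
  have h2 : i ^ 45 % 5 = 1 := pow_injOn_Iio_orderOf (x := x) (by rw [Set.mem_Iio, hx]; exact Nat.mod_lt _ (by norm_num))
    (by rw [Set.mem_Iio, hx]; norm_num) h1
  have h3 : i % 5 = 1 := by
    rw [Nat.pow_mod] at h2
    have h5 := Nat.mod_lt i (show 5 > 0 by norm_num)
    interval_cases (i % 5) <;> revert h2 <;> norm_num
  refine mul_inv_eq_iff_eq_mul.1 ?_
  rw [← hi, ← pow_mod_orderOf, hx, h3, pow_one]

/-- A simple group of order 60480 does not embed into the collineation group of the plane of order four. -/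
theorem no_embedding {G : Type*} [Group G] [Finite G] [IsSimpleGroup G] (hG : Nat.card G = 60480) {A : Type*} [Group A]
    [Finite A] (hA : Nat.card A ≤ 120960) (X : Subgroup A) (hX : Nat.card X = 20160) (χ : G →* A)
    (hχ : Function.Injective χ) : False := by
  classical
  have hidx : X.index ≤ 6 := by
    have := X.card_mul_index
    rw [hX] at this
    omega
  let φ : G →* Equiv.Perm (A ⧸ X) := (MulAction.toPermHom A (A ⧸ X)).comp χ
  have hker : φ.ker = ⊤ := by
    rcases (inferInstance : IsSimpleGroup G).eq_bot_or_eq_top_of_normal φ.ker φ.normal_ker with h | h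
    · exfalso
      have := Nat.card_le_card_of_injective φ (φ.ker_eq_bot_iff.mp h)
      rw [hG, Nat.card_perm] at this
      have h6 : (Nat.card (A ⧸ X)).factorial ≤ Nat.factorial 6 := Nat.factorial_le hidx
      rw [show Nat.factorial 6 = 720 from rfl] at h6
      omega
    · exact h
  have hle : χ.range ≤ X := by
    rintro _ ⟨g, rfl⟩
    have : φ g = 1 := φ.mem_ker.mp (hker ▸ Subgroup.mem_top _)
    have := DFunLike.congr_fun this ((1 : A) : A ⧸ X)
    simp only [φ, MonoidHom.coe_comp, Function.comp_apply, MulAction.toPermHom_apply,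
      MulAction.toPerm_apply, MulAction.Quotient.smul_coe, smul_eq_mul, mul_one, Equiv.Perm.one_apply] at this
    simpa [QuotientGroup.eq] using this
  have := Subgroup.card_le_of_le hle
  rw [← Nat.card_congr (MonoidHom.ofInjective hχ).toEquiv, hG, hX] at this
  omega

/-- A simple group of order 60480 preserves no projective plane of order four. -/
theorem no_plane {G : Type*} [Group G] [Finite G] [IsSimpleGroup G] {α : Type*} [Fintype α] [DecidableEq α]
    [MulAction G α] (hα : Fintype.card α = 21) {B : Set (Finset α)} (hB : IsSteinerSystem 2 5 B)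
    (hG : Nat.card G = 60480) (hne : ∃ (g : G) (x : α), g • x ≠ x)
    (hpres : ∀ g : G, ∀ b ∈ B, b.image (g • ·) ∈ B) : False := by
  classical
  letI : Fintype (GaloisField 2 2) := Fintype.ofFinite _
  have hF : Fintype.card (GaloisField 2 2) = 4 := by
    rw [← Nat.card_eq_fintype_card, GaloisField.card 2 2 two_ne_zero]; norm_num
  letI : Fintype (Spor.M21.Pt (GaloisField 2 2)) := Fintype.ofFinite _
  open Spor Finset in
  obtain ⟨e, he⟩ := Spor.PlaneFour.iso hα (Spor.M21.pg_card hF) hB (Spor.M21.pg_steiner hF)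
  have he' : ∀ b, b ∈ B ↔ b.image e ∈ Spor.M21.pgLines (GaloisField 2 2) := fun b => by
    rw [← he]
    exact ⟨Set.mem_image_of_mem _, fun ⟨c, hc, ec⟩ => (Finset.image_injective e.injective ec) ▸ hc⟩
  let θ : G →* Equiv.Perm α := MulAction.toPermHom G α
  have hθ : ∀ g, θ g ∈ setSystemAut B := fun g => Spor.SteinerAut.mem_aut.mpr fun b => ⟨fun h => by
      have := hpres g⁻¹ _ h
      rw [Finset.image_image] at this
      have e0 : ((fun x : α => g⁻¹ • x) ∘ ⇑(θ g)) = id := funext fun x => inv_smul_smul g x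
      rwa [e0, Finset.image_id] at this,
    fun h => hpres g b h⟩
  have hpsl : ∀ g, Projectivization.PSLAction.toPermHom g ∈ setSystemAut (Spor.M21.pgLines (GaloisField 2 2)) :=
    fun g => Spor.SteinerAut.mem_aut.mpr fun b => ⟨fun h => by
      have := Spor.M21.pgLines_smul g⁻¹ h
      rwa [Finset.image_image, ← Equiv.Perm.coe_mul, ← map_mul, inv_mul_cancel, map_one, Equiv.Perm.coe_one,
        Finset.image_id] at this,
    Spor.M21.pgLines_smul g⟩
  let ψ : Matrix.ProjectiveSpecialLinearGroup (Fin 3) (GaloisField 2 2) →*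
      setSystemAut (Spor.M21.pgLines (GaloisField 2 2)) := Projectivization.PSLAction.toPermHom.codRestrict _ hpsl
  let χ : G →* setSystemAut (Spor.M21.pgLines (GaloisField 2 2)) :=
    (Spor.SteinerAut.autEquiv e he').toMonoidHom.comp (θ.codRestrict _ hθ)
  have hψ : Function.Injective ψ := fun a b h =>
    Matrix.ProjectiveSpecialLinearGroup.toPermHom_injective (congrArg Subtype.val h)
  have hθinj : Function.Injective θ := by
    refine (MonoidHom.ker_eq_bot_iff θ).1 ((IsSimpleGroup.eq_bot_or_eq_top_of_normal θ.ker θ.normal_ker).resolve_right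
      fun h => ?_)
    obtain ⟨g, x, hg⟩ := hne
    exact hg (DFunLike.congr_fun (θ.mem_ker.1 (h ▸ Subgroup.mem_top g)) x)
  have hχ : Function.Injective χ := fun a b h =>
    hθinj (congrArg Subtype.val ((Spor.SteinerAut.autEquiv e he').injective h))
  exact no_embedding hG (Spor.PlaneFour.card_aut_le ⟨Spor.M21.pg_card hF, Spor.M21.pg_steiner hF⟩) ψ.range
    (by rw [← Nat.card_congr (MonoidHom.ofInjective hψ).toEquiv, Spor.M21.natCard_psl hF]) χ hχ

end generic

variable {G : Type u} [Group G] [Finite G] {T : Sylow 2 G} {V₁ V₂ : Subgroup G} {z ρ : G}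

theorem Hyp.false (h : Hyp T V₁ V₂ z ρ) [IsSimpleGroup G] : False := by
  classical
  haveI := Fact.mk Nat.prime_two
  haveI : Fintype G := Fintype.ofFinite G
  set L := normalizer (V₁ : Set G) with hLdef
  set L' := normalizer (V₂ : Set G) with hL'def
  haveI : Fintype (G ⧸ L') := Fintype.ofFinite _
  set H := normalizer ((T : Subgroup G) : Set G) with hH
  have hHL' : H = L ⊓ L' := h.inf_norm.symm
  have cardL' : Nat.card L' = 2880 := h.symm.card_norm
  have hzo : orderOf z = 2 := h.orderOf_z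
  -- counting involutions and points
  let I : Finset G := Finset.univ.filter fun i => orderOf i = 2
  have hmemI : ∀ i, i ∈ I ↔ orderOf i = 2 := fun i => by simp [I]
  set n := Nat.card (G ⧸ L') with hn
  have hGn : Nat.card G = 2880 * n := by
    rw [← cardL', hn, ← index_eq_card, card_mul_index]
  have hI : I.card * 192 = Nat.card G := by
    let f : G ⧸ Subgroup.centralizer ({z} : Set G) → {i : G // i ∈ I} := fun c =>
      ⟨c.out * z * c.out⁻¹, (hmemI _).2 (by rw [Invol.orderOf_conj_eq, hzo])⟩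
    have hf : Function.Bijective f := by
      constructor
      · intro c d e
        have e' : c.out * z * c.out⁻¹ = d.out * z * d.out⁻¹ := congrArg Subtype.val e
        rw [← QuotientGroup.out_eq' c, ← QuotientGroup.out_eq' d, QuotientGroup.eq, mem_centralizer_singleton_iff]
        calc c.out⁻¹ * d.out * z = c.out⁻¹ * (d.out * z * d.out⁻¹) * d.out := by group
          _ = z * (c.out⁻¹ * d.out) := by rw [← e']; group
      · rintro ⟨i, hi⟩
        obtain ⟨g, hg⟩ := h.conj i ((hmemI i).1 hi)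
        refine ⟨QuotientGroup.mk g, Subtype.ext ?_⟩
        obtain ⟨r, hr2⟩ := QuotientGroup.mk_out_eq_mul (Subgroup.centralizer ({z} : Set G)) g
        show (QuotientGroup.mk g : G ⧸ _).out * z * _⁻¹ = i
        rw [hr2, ← hg]
        calc g * r * z * (g * r)⁻¹ = g * ((r : G) * z * (r : G)⁻¹) * g⁻¹ := by group
          _ = g * z * g⁻¹ := by rw [mem_centralizer_singleton_iff.1 r.2, mul_inv_cancel_right]
    have h2 := card_mul_index (Subgroup.centralizer ({z} : Set G))
    rw [index_eq_card, Nat.card_eq_of_bijective f hf, h.cardC, Nat.card_eq_fintype_card (α := {i : G // i ∈ I}),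
      Fintype.card_coe] at h2
    rw [← h2, mul_comm]
  set P0 : G ⧸ L' := QuotientGroup.mk 1 with hP0
  have hP0g : ∀ g : G, g • P0 = QuotientGroup.mk g := fun g => by
    rw [hP0, MulAction.Quotient.smul_mk, smul_eq_mul, mul_one]
  have hfixP : ∀ g : G, g • P0 = P0 ↔ g ∈ L' := fun g => by
    rw [hP0, Invol.smul_coset_eq_iff, inv_one, one_mul, mul_one]
  have hcount : ∀ (S : Subgroup G), (I.filter fun i => i ∈ S).card = Nat.card {i : G // orderOf i = 2 ∧ i ∈ S} := by
    intro S
    rw [Nat.card_eq_fintype_card, Fintype.card_subtype, Finset.filter_filter]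
  have h75 : ∀ g : G, (I.filter fun i => i • (QuotientGroup.mk g : G ⧸ L') = QuotientGroup.mk g).card = 75 := by
    intro g
    rw [← h.card_invol, ← hcount]
    refine Finset.card_bij' (fun i _ => g⁻¹ * i * g) (fun t _ => g * t * g⁻¹) ?_ ?_ ?_ ?_
    · intro i hi
      rw [Finset.mem_filter, hmemI] at hi ⊢
      exact ⟨by rw [← hi.1, ← Invol.orderOf_conj_eq g⁻¹ i, inv_inv], Invol.smul_coset_eq_iff.mp hi.2⟩
    · intro t ht
      rw [Finset.mem_filter, hmemI] at ht ⊢
      exact ⟨by rw [Invol.orderOf_conj_eq, ht.1], Invol.smul_coset_eq_iff.mpr (by simpa [mul_assoc] using ht.2)⟩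
    · intro i _; group
    · intro t _; group
  let Fix : G → Finset (G ⧸ L') := fun i => Finset.univ.filter fun c => i • c = c
  have hFixc : ∀ g i : G, Fix (g * i * g⁻¹) = (Fix i).image (g • ·) := by
    intro g i
    ext c
    simp only [Fix, Finset.mem_filter, Finset.mem_univ, true_and, Finset.mem_image]
    constructor
    · intro hc
      refine ⟨g⁻¹ • c, ?_, smul_inv_smul g c⟩
      rw [mul_smul, mul_smul] at hc
      conv_rhs => rw [← hc, inv_smul_smul]
    · rintro ⟨d, hd, rfl⟩
      rw [mul_smul, mul_smul, inv_smul_smul, hd]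
  have hFixcard : ∀ i, orderOf i = 2 → (Fix i).card = (Fix z).card := by
    intro i hi
    obtain ⟨g, rfl⟩ := h.conj i hi
    rw [hFixc, Finset.card_image_of_injective _ (MulAction.injective g)]
  have hn0 : 0 < n := Nat.card_pos
  have hN : I.card = 15 * n := by omega
  have hf5 : (Fix z).card = 5 := by
    have h1 : ∑ i ∈ I, (Fix i).card = ∑ c : G ⧸ L', (I.filter fun i => i • c = c).card := by
      simp only [Fix, Finset.card_filter]
      rw [Finset.sum_comm]
    have h75' : ∀ c : G ⧸ L', (I.filter fun i => i • c = c).card = 75 := fun c => by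
      obtain ⟨g, rfl⟩ := QuotientGroup.mk_surjective c
      exact h75 g
    rw [Finset.sum_congr rfl fun i hi => hFixcard i ((hmemI i).1 hi),
      Finset.sum_congr rfl (fun c _ => h75' c), Finset.sum_const, Finset.sum_const,
      Finset.card_univ, smul_eq_mul, smul_eq_mul, ← Nat.card_eq_fintype_card, ← hn, hN] at h1
    have h2 : n * (15 * (Fix z).card) = n * 75 := by rw [← h1]; ring
    have h3 := Nat.eq_of_mul_eq_mul_left hn0 h2
    omega
  -- the basic line
  set HL := H.subgroupOf L with hHL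
  let pt : L ⧸ HL → G ⧸ L' := fun c => QuotientGroup.mk (c.out : G)
  have hpt : ∀ y : L, pt (QuotientGroup.mk y) = QuotientGroup.mk (y : G) := by
    intro y
    obtain ⟨r, hr2⟩ := QuotientGroup.mk_out_eq_mul HL y
    show (QuotientGroup.mk (((QuotientGroup.mk y : L ⧸ HL).out : L) : G) : G ⧸ L') = _
    rw [hr2, QuotientGroup.eq]
    push_cast
    rw [mul_inv_rev, inv_mul_cancel_right]
    have hm : ((r : L) : G) ∈ L ⊓ L' := hHL' ▸ mem_subgroupOf.1 r.2
    exact inv_mem hm.2
  have hptinj : Function.Injective pt := by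
    intro c d e
    rw [← QuotientGroup.out_eq' c, ← QuotientGroup.out_eq' d, QuotientGroup.eq]
    show (((c.out)⁻¹ * d.out : L) : G) ∈ H
    rw [hHL']
    exact ⟨SetLike.coe_mem _, QuotientGroup.eq.1 e⟩
  haveI : Fintype (L ⧸ HL) := Fintype.ofFinite _
  set line₀ : Finset (G ⧸ L') := Finset.univ.image pt with hline₀
  have hl5 : line₀.card = 5 := by
    rw [hline₀, Finset.card_image_of_injective _ hptinj, Finset.card_univ, ← Nat.card_eq_fintype_card]
    exact h.symm.index_stab
  have hmeml : ∀ c, c ∈ line₀ ↔ ∃ y ∈ L, QuotientGroup.mk y = c := by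
    intro c
    simp only [hline₀, Finset.mem_image, Finset.mem_univ, true_and]
    exact ⟨fun ⟨d, hd⟩ => ⟨_, d.out.2, hd⟩, fun ⟨y, hy, hd⟩ => ⟨QuotientGroup.mk ⟨y, hy⟩, by rw [hpt]; exact hd⟩⟩
  have hP0l : P0 ∈ line₀ := (hmeml _).2 ⟨1, one_mem L, rfl⟩
  have hfixV : ∀ v ∈ V₁, ∀ c ∈ line₀, v • c = c := by
    intro v hv c hc
    obtain ⟨y, hy, rfl⟩ := (hmeml c).1 hc
    rw [Invol.smul_coset_eq_iff]
    exact h.symm.T_le_norm (h.le₁ ((mem_normalizer_iff''.1 hy v).1 hv))
  have hFixV : ∀ v ∈ V₁, v ≠ 1 → Fix v = line₀ := by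
    intro v hv hv1
    refine (Finset.eq_of_subset_of_card_le (fun c hc => ?_) ?_).symm
    · simp only [Fix, Finset.mem_filter, Finset.mem_univ, true_and]
      exact hfixV v hv c hc
    · rw [hl5, hFixcard v (h.order_two hv hv1), hf5]
  let img : G → Finset (G ⧸ L') := fun g => line₀.image (g • ·)
  have hmemimg : ∀ g c, c ∈ img g ↔ g⁻¹ • c ∈ line₀ := by
    intro g c
    simp only [img, Finset.mem_image]
    exact ⟨fun ⟨d, hd, e⟩ => by rw [← e, inv_smul_smul]; exact hd, fun hc => ⟨_, hc, smul_inv_smul g c⟩⟩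
  have hcardimg : ∀ g, (img g).card = 5 := fun g => by
    simp only [img, Finset.card_image_of_injective _ (MulAction.injective g), hl5]
  have hmulimg : ∀ g k, img (g * k) = (img k).image (g • ·) := by
    intro g k
    simp only [img, Finset.image_image]
    congr 1
    funext c
    exact mul_smul g k c
  have hLimg : ∀ y ∈ L, img y = line₀ := by
    intro y hy
    refine Finset.eq_of_subset_of_card_le (fun c hc => ?_) (by rw [hcardimg, hl5])
    obtain ⟨d, hd, rfl⟩ := Finset.mem_image.1 hc
    obtain ⟨u, hu, rfl⟩ := (hmeml d).1 hd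
    exact (hmeml _).2 ⟨y * u, mul_mem hy hu, (MulAction.Quotient.smul_mk L' y u).symm⟩
  have hone : img 1 = line₀ := hLimg 1 (one_mem L)
  -- two lines through a point meet only there
  have hU : ∀ m ∈ L', ∀ c ∈ line₀, c ≠ P0 → c ∈ img m → m ∈ H := by
    intro m hm c hc hcP hcm
    by_contra hmH
    obtain ⟨y, hy, rfl⟩ := (hmeml c).1 hc
    set B := V₂.map (MulAut.conj y⁻¹).toMonoidHom with hB
    have hBH : B ≤ H := by
      rw [hHL']
      rintro _ ⟨b, hb, rfl⟩
      refine ⟨(mul_mem (mul_mem (inv_mem hy) (h.T_le_norm (h.le₂ hb))) (inv_mem (inv_mem hy)) :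
        y⁻¹ * b * y⁻¹⁻¹ ∈ L), ?_⟩
      show y⁻¹ * b * y⁻¹⁻¹ ∈ L'
      rw [inv_inv]
      refine Invol.smul_coset_eq_iff.1 ?_
      obtain ⟨w, hw, w', hw', rfl⟩ := h.decomp_V hm hmH hb
      have h1 : (m * w' * m⁻¹) • (QuotientGroup.mk y : G ⧸ L') = QuotientGroup.mk y := by
        rw [mul_smul, mul_smul, hfixV w' hw'.1 _ ((hmemimg m _).1 hcm), smul_inv_smul]
      rw [mul_smul, h1, hfixV w hw.1 _ hc]
    have hBT : B ≤ (T : Subgroup G) :=
      h.two_norm ((IsPGroup.of_card (n := 4) (by rw [h.card₂]; norm_num) : IsPGroup 2 V₂).map _) hBH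
    rcases h.el16 hBT (by rw [hB, card_map_of_injective (MulAut.conj y⁻¹).injective, h.card₂]) (by
        rintro _ ⟨v, hv, rfl⟩; rw [← map_mul, h.sq₂ v hv, map_one]) with e | e
    · exact h.symm.not_conj y⁻¹ e
    · have h1 : y⁻¹ ∈ L' := Subgroup.mem_normalizer_fintype fun v hv => e.le ⟨v, hv, rfl⟩
      exact hcP (by rw [← hP0g y, (hfixP y).2 (by simpa using inv_mem h1)])
  have hstab : ∀ g, img g = line₀ → g ∈ L := by
    intro g hg
    obtain ⟨y, hy, hye⟩ : ∃ y ∈ L, QuotientGroup.mk y = g • P0 :=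
      (hmeml _).1 (hg ▸ Finset.mem_image_of_mem _ hP0l)
    set m := y⁻¹ * g with hm
    have hmL' : m ∈ L' := (hfixP m).1 (by rw [hm, mul_smul, ← hye, ← hP0g y, inv_smul_smul])
    have hmimg : img m = line₀ := by
      rw [hm, hmulimg, hg]; exact hLimg _ (inv_mem hy)
    obtain ⟨c, hc, hcP⟩ : ∃ c ∈ line₀, c ≠ P0 := by
      by_contra hc
      push Not at hc
      have := Finset.card_le_one.2 fun a ha b hb => (hc a ha).trans (hc b hb).symm
      omega
    have := hU m hmL' c hc hcP (hmimg.symm ▸ hc)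
    rw [hHL'] at this
    rw [show g = y * m by rw [hm, mul_inv_cancel_left]]
    exact mul_mem hy this.1
  have hthrough : ∀ g, P0 ∈ img g → ∃ m ∈ L', img g = img m := by
    intro g hg
    obtain ⟨y, hy, hye⟩ := (hmeml _).1 ((hmemimg g _).1 hg)
    refine ⟨g * y, (hfixP _).1 ?_, ?_⟩
    · rw [mul_smul, hP0g, hye, smul_inv_smul]
    · rw [hmulimg, hLimg y hy]
  have huniq0 : ∀ m₁ ∈ L', ∀ m₂ ∈ L', ∀ Y ≠ P0, Y ∈ img m₁ → Y ∈ img m₂ → img m₁ = img m₂ := by
    intro m₁ h₁ m₂ h₂ Y hY hY1 hY2
    have hm : m₁⁻¹ * m₂ ∈ H := by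
      refine hU _ (mul_mem (inv_mem h₁) h₂) (m₁⁻¹ • Y) ((hmemimg _ _).1 hY1) (fun e => hY ?_) ?_
      · rw [← smul_inv_smul m₁ Y, e, (hfixP m₁).2 h₁]
      · rw [hmemimg, ← mul_smul, show (m₁⁻¹ * m₂)⁻¹ * m₁⁻¹ = m₂⁻¹ by group]
        exact (hmemimg _ _).1 hY2
    rw [hHL'] at hm
    rw [show m₂ = m₁ * (m₁⁻¹ * m₂) by group, hmulimg, hLimg _ hm.1]
  have huniq : ∀ g₁ g₂ : G, ∀ X Y : G ⧸ L', X ≠ Y → X ∈ img g₁ → Y ∈ img g₁ → X ∈ img g₂ → Y ∈ img g₂ →
      img g₁ = img g₂ := by
    intro g₁ g₂ X Y hXY hX1 hY1 hX2 hY2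
    obtain ⟨k, rfl⟩ := QuotientGroup.mk_surjective X
    have key : ∀ g, QuotientGroup.mk k ∈ img g → Y ∈ img g →
        ∃ m ∈ L', img (k⁻¹ * g) = img m ∧ k⁻¹ • Y ∈ img m := by
      intro g hXg hYg
      obtain ⟨m, hm, hme⟩ := hthrough (k⁻¹ * g) (by
        rw [hmemimg, mul_inv_rev, inv_inv, mul_smul, hP0g]
        exact (hmemimg _ _).1 hXg)
      refine ⟨m, hm, hme, hme ▸ ?_⟩
      rw [hmulimg]
      exact Finset.mem_image_of_mem _ hYg
    obtain ⟨m₁, hm₁, e₁, hY₁⟩ := key g₁ hX1 hY1
    obtain ⟨m₂, hm₂, e₂, hY₂⟩ := key g₂ hX2 hY2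
    have e := huniq0 m₁ hm₁ m₂ hm₂ _ (fun e => hXY (by rw [← smul_inv_smul k Y, e, hP0g])) hY₁ hY₂
    calc img g₁ = img (k * (k⁻¹ * g₁)) := by rw [mul_inv_cancel_left]
      _ = (img (k⁻¹ * g₂)).image (k • ·) := by rw [hmulimg, e₁, e, ← e₂]
      _ = img g₂ := by rw [← hmulimg, mul_inv_cancel_left]
  -- the points collinear with the base point
  set HL' := H.subgroupOf L' with hHL'set
  haveI : Fintype (L' ⧸ HL') := Fintype.ofFinite _
  have h5' : Fintype.card (L' ⧸ HL') = 5 := by
    rw [← Nat.card_eq_fintype_card]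
    exact h.index_stab
  set C₀ : Finset (G ⧸ L') := (Finset.univ ×ˢ line₀.erase P0).image
    (fun q : (L' ⧸ HL') × (G ⧸ L') => ((q.1.out : L') : G) • q.2) with hC₀
  have hC₀card : C₀.card = 20 := by
    rw [hC₀, Finset.card_image_of_injOn, Finset.card_product, Finset.card_univ, h5',
      Finset.card_erase_of_mem hP0l, hl5]
    rintro ⟨c, Y⟩ hY ⟨d, Z⟩ hZ e
    simp only [Finset.coe_product, Finset.coe_univ, Set.mem_prod, Set.mem_univ, Finset.mem_coe,
      Finset.mem_erase, true_and] at hY hZ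
    change ((c.out : L') : G) • Y = ((d.out : L') : G) • Z at e
    have hYne : ((c.out : L') : G) • Y ≠ P0 := fun e' => hY.1 (by
      rw [← inv_smul_smul ((c.out : L') : G) Y, e', (hfixP _).2 (inv_mem c.out.2)])
    have heq := huniq0 _ c.out.2 _ d.out.2 _ hYne (Finset.mem_image_of_mem _ hY.2)
      (e ▸ Finset.mem_image_of_mem _ hZ.2)
    have hcd : c = d := by
      rw [← QuotientGroup.out_eq' c, ← QuotientGroup.out_eq' d, QuotientGroup.eq]
      show (((c.out)⁻¹ * d.out : L') : G) ∈ H
      rw [hHL']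
      refine ⟨hstab _ ?_, SetLike.coe_mem _⟩
      push_cast
      rw [hmulimg, ← heq, ← hmulimg, inv_mul_cancel, hone]
    subst hcd
    rw [MulAction.injective _ e]
  have hC₀mem : ∀ m ∈ L', ∀ Y ≠ P0, Y ∈ img m → Y ∈ C₀ := by
    intro m hm Y hY hYm
    obtain ⟨r, hr2⟩ := QuotientGroup.mk_out_eq_mul HL' (⟨m, hm⟩ : L')
    rw [hC₀, Finset.mem_image]
    set c : L' ⧸ HL' := QuotientGroup.mk ⟨m, hm⟩ with hc
    refine ⟨(c, ((c.out : L') : G)⁻¹ • Y), ?_, smul_inv_smul _ _⟩
    simp only [Finset.mem_product, Finset.mem_univ, true_and, Finset.mem_erase]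
    refine ⟨fun e => hY ?_, ?_⟩
    · rw [← smul_inv_smul ((c.out : L') : G) Y, e, (hfixP _).2 c.out.2]
    · rw [← hmemimg, hc, hr2]
      push_cast
      have hr' : ((r : L') : G) ∈ L ⊓ L' := hHL' ▸ mem_subgroupOf.1 r.2
      rw [hmulimg, hLimg _ hr'.1]
      exact hYm
  have hP0C : P0 ∉ C₀ := by
    intro hm
    rw [hC₀, Finset.mem_image] at hm
    obtain ⟨⟨c, Y⟩, hY, e⟩ := hm
    simp only [Finset.mem_product, Finset.mem_univ, true_and, Finset.mem_erase] at hY
    refine hY.1 ?_
    rw [← inv_smul_smul ((c.out : L') : G) Y]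
    change ((c.out : L') : G) • Y = P0 at e
    rw [e, (hfixP _).2 (inv_mem c.out.2)]
  set D : Finset (G ⧸ L') := Finset.univ \ insert P0 C₀ with hD
  have hDcard : D.card + 21 = n := by
    have h1 := Finset.card_sdiff_add_card_eq_card (Finset.subset_univ (insert P0 C₀))
    rw [Finset.card_insert_of_notMem hP0C, hC₀card, Finset.card_univ, ← Nat.card_eq_fintype_card] at h1
    exact h1
  have hfixline : ∀ i, orderOf i = 2 → ∃ g, Fix i = img g := by
    intro i hi
    obtain ⟨g, rfl⟩ := h.conj i hi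
    exact ⟨g, by rw [hFixc, hFixV z h.zW.1 h.z1]⟩
  -- involutions moving the base point to a non-collinear point
  have hK14 : ∀ Y ∈ D, ∀ u : G, orderOf u = 2 → u • P0 = Y →
      Nat.card {k : G // k ∈ L' ⊓ MulAction.stabilizer G Y ∧ u * k * u⁻¹ = k⁻¹} ≤ 14 := by
    intro Y hYD u huo huP
    simp only [hD, Finset.mem_sdiff, Finset.mem_univ, true_and, Finset.mem_insert, not_or] at hYD
    obtain ⟨hYP, hYC⟩ := hYD
    set K := L' ⊓ MulAction.stabilizer G Y with hK
    have hnoinv : ∀ i ∈ K, orderOf i ≠ 2 := by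
      intro i hi hio
      obtain ⟨g, hg⟩ := hfixline i hio
      have h1 : P0 ∈ img g := hg ▸ by
        simp only [Fix, Finset.mem_filter, Finset.mem_univ, true_and]; exact (hfixP i).2 hi.1
      have h2 : Y ∈ img g := hg ▸ by
        simp only [Fix, Finset.mem_filter, Finset.mem_univ, true_and]; exact hi.2
      obtain ⟨m, hm, hme⟩ := hthrough g h1
      exact hYC (hC₀mem m hm Y hYP (hme ▸ h2))
    have hodd : Odd (Nat.card K) := by
      refine Nat.not_even_iff_odd.1 fun he => ?_
      obtain ⟨i, hi, hio⟩ := Invol.exists_orderOf_two_mem he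
      exact hnoinv i hi hio
    have h45 : Nat.card K ∣ 45 := by
      have h2 : Nat.card K ∣ 64 * 45 := by
        rw [show 64 * 45 = 2880 by norm_num, ← cardL']
        exact Subgroup.card_dvd_of_le inf_le_left
      exact ((Nat.coprime_two_right.2 hodd).pow_right 6).dvd_of_dvd_mul_left h2
    by_contra hgt
    push Not at hgt
    have hle : Nat.card {k : G // k ∈ K ∧ u * k * u⁻¹ = k⁻¹} ≤ Nat.card K :=
      Nat.card_le_card_of_injective (fun k => (⟨k.1, k.2.1⟩ : K)) fun a b e =>
        Subtype.ext (congrArg (fun w : K => (w : G)) e)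
    have hKc : Nat.card K = 15 ∨ Nat.card K = 45 := by
      have hle' := Nat.le_of_dvd (by norm_num) h45
      obtain ⟨c, hc⟩ := h45
      have : c ≤ 3 := by
        by_contra hc'
        have : Nat.card K * 4 ≤ 45 := hc ▸ Nat.mul_le_mul_left _ (by omega)
        omega
      interval_cases c <;> omega
    haveI := Fact.mk (show Nat.Prime 5 by norm_num)
    haveI := Fact.mk (show Nat.Prime 3 by norm_num)
    obtain ⟨x, hx⟩ := exists_prime_orderOf_dvd_card' (G := K) 5 (by rcases hKc with e | e <;> rw [e] <;> norm_num)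
    set x' : L' := ⟨x, x.2.1⟩ with hx'
    have hx'o : orderOf x' = 5 := by rw [hx', Subgroup.orderOf_mk, Subgroup.orderOf_coe, hx]
    have hcard576 : Nat.card HL' = 576 := by
      rw [hHL'set, Nat.card_congr (subgroupOfEquivOfLe ?_).toEquiv, h.card_norm_T]
      rw [hHL']; exact inf_le_right
    have hcore : ∀ y : K, orderOf y ∣ 9 → (y : G) ∈ core (T : Subgroup G) V₂ := by
      intro y hy
      set y' : L' := ⟨y, y.2.1⟩ with hy'
      have hy'o : orderOf y' ∣ 3 ^ 2 := by rw [hy', Subgroup.orderOf_mk, Subgroup.orderOf_coe]; exact hy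
      have hxy' : y' * x' = x' * y' := Subtype.ext (congrArg Subtype.val (central_five hKc hx y) :)
      obtain ⟨j, -, hj⟩ := (Nat.dvd_prime_pow Nat.prime_three).1 hy'o
      have hyp : IsPGroup 3 (zpowers y') := Invol.isPGroup_zpowers hj
      obtain ⟨c, hcfix⟩ := hyp.nonempty_fixed_point_of_prime_not_dvd_card (L' ⧸ HL')
        (by rw [Nat.card_eq_fintype_card, h5']; norm_num)
      have hyc : y' • c = c := hcfix ⟨y', mem_zpowers y'⟩
      have hnfix : ∀ j : ℕ, x' ^ j • c = c → x' ^ j = 1 := by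
        intro j hj
        rw [← QuotientGroup.out_eq' c, Invol.smul_coset_eq_iff] at hj
        have h576 : orderOf (c.out⁻¹ * x' ^ j * c.out) ∣ 576 := by
          rw [← hcard576, ← Subgroup.orderOf_mk _ hj]
          exact orderOf_dvd_natCard _
        rw [show c.out⁻¹ * x' ^ j * c.out = c.out⁻¹ * x' ^ j * c.out⁻¹⁻¹ by group, Invol.orderOf_conj_eq] at h576
        have h5 : orderOf (x' ^ j) ∣ 5 := hx'o ▸ orderOf_pow_dvd j
        exact orderOf_eq_one_iff.1 (Nat.eq_one_of_dvd_coprimes (by norm_num) h576 h5)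
      have hinj : Function.Injective fun j : Fin 5 => x' ^ (j : ℕ) • c := by
        intro i j e
        have key : ∀ a b : Fin 5, a ≤ b → x' ^ (a : ℕ) • c = x' ^ (b : ℕ) • c → a = b := by
          intro a b hab e'
          have h1 : x' ^ ((b : ℕ) - a) • c = c := by
            refine MulAction.injective (x' ^ (a : ℕ)) ?_
            show x' ^ (a : ℕ) • x' ^ ((b : ℕ) - a) • c = x' ^ (a : ℕ) • c
            rw [← mul_smul, ← pow_add, Nat.add_sub_cancel' (Fin.le_def.1 hab)]
            exact e'.symm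
          have h2 := Nat.le_of_dvd (n := (b : ℕ) - a) (m := 5)
          have h3 : 5 ∣ (b : ℕ) - a := hx'o.symm.dvd.trans (orderOf_dvd_of_pow_eq_one (hnfix _ h1))
          refine Fin.ext ?_
          rcases Nat.eq_zero_or_pos ((b : ℕ) - a) with h4 | h4
          · have := Fin.le_def.1 hab; omega
          · have := h2 h4 h3; omega
        rcases le_total i j with hij | hij
        · exact key i j hij e
        · exact (key j i hij e.symm).symm
      refine ⟨y'.2, fun l hl => ?_⟩
      have h1 : y' • (QuotientGroup.mk (⟨l, hl⟩ : L') : L' ⧸ HL') = QuotientGroup.mk ⟨l, hl⟩ := by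
        obtain ⟨j, hj⟩ := (hinj.bijective_of_nat_card_le
          (by rw [Nat.card_eq_fintype_card, h5', Nat.card_eq_fintype_card, Fintype.card_fin])).2 (QuotientGroup.mk ⟨l, hl⟩)
        rw [← hj]
        show y' • x' ^ (j : ℕ) • c = x' ^ (j : ℕ) • c
        rw [← mul_smul, (Commute.pow_right hxy' _ :).eq, mul_smul, hyc]
      rw [Invol.smul_coset_eq_iff] at h1
      exact mem_subgroupOf.1 h1
    rcases hKc with hK15 | hK45
    · -- every element is inverted
      obtain ⟨y, hy⟩ := exists_prime_orderOf_dvd_card' (G := K) 3 (by rw [hK15]; norm_num)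
      have hall : ∀ k : K, u * (k : G) * u⁻¹ = (k : G)⁻¹ := by
        intro k
        obtain ⟨⟨w, hw⟩, e⟩ := (Function.Injective.bijective_of_nat_card_le
          (f := fun k : {k : G // k ∈ K ∧ u * k * u⁻¹ = k⁻¹} => (⟨k.1, k.2.1⟩ : K))
          (fun a b e => Subtype.ext (congrArg (fun w : K => (w : G)) e)) (by rw [hK15]; omega)).2 k
        have e' : w = (k : G) := congrArg Subtype.val e
        rw [← e']; exact hw.2
      refine h.core_not_real (hcore y (by rw [hy]; norm_num)) ?_ ?_ (hall y)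
      · rw [← hy, ← Subgroup.orderOf_coe y]; exact pow_orderOf_eq_one _
      · intro e
        rw [← Subgroup.orderOf_coe y, e, orderOf_one] at hy
        norm_num at hy
    · obtain ⟨R, hR⟩ := Sylow.exists_subgroup_card_pow_prime 3 (G := K) (n := 2) (by rw [hK45]; norm_num)
      have hle' : R.map K.subtype ≤ core (T : Subgroup G) V₂ := by
        rintro _ ⟨r, hr, rfl⟩
        refine hcore r ?_
        rw [show (9 : ℕ) = 3 ^ 2 by norm_num, ← hR, ← Subgroup.orderOf_mk r hr]
        exact orderOf_dvd_natCard _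
      have := Subgroup.card_dvd_of_le hle'
      rw [card_map_of_injective (subtype_injective _), hR] at this
      exact h.nine_core (by simpa using this)
  -- counting the involutions moving the base point
  have hmov : 15 * n ≤ 75 + (5 * 48 + D.card * 14) := by
    set Sout : (L' ⧸ HL') → Finset G := fun c => I.filter fun i =>
      ((c.out : L') : G)⁻¹ * i * (c.out : L') ∈ L ∧ ((c.out : L') : G)⁻¹ * i * (c.out : L') ∉ L' with hSout
    set Sin : G ⧸ L' → Finset G := fun Y => I.filter fun i => i • P0 = Y with hSin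
    have hsplit : I ⊆ (I.filter fun i => i • P0 = P0) ∪ (Finset.univ.biUnion Sout ∪ D.biUnion Sin) := by
      intro i hi
      simp only [Finset.mem_union, Finset.mem_filter, Finset.mem_biUnion, Finset.mem_univ, true_and]
      by_cases hfx : i • P0 = P0
      · exact Or.inl ⟨hi, hfx⟩
      right
      by_cases hC : i • P0 ∈ C₀
      · left
        rw [hC₀, Finset.mem_image] at hC
        obtain ⟨⟨c, Z⟩, hZ, hZe⟩ := hC
        simp only [Finset.mem_product, Finset.mem_univ, true_and, Finset.mem_erase] at hZ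
        set m : G := ((c.out : L') : G) with hm
        change m • Z = i • P0 at hZe
        have hYm : i • P0 ∈ img m := hZe ▸ Finset.mem_image_of_mem _ hZ.2
        have hPm : P0 ∈ img m := by
          rw [hmemimg, (hfixP _).2 (inv_mem c.out.2)]; exact hP0l
        have hii : i * i = 1 := Invol.mul_self_of_orderOf_two ((hmemI i).1 hi)
        have heq : img m = img (i * m) := by
          refine huniq _ _ P0 (i • P0) (fun e => hfx e.symm) hPm hYm ?_ ?_
          · rw [hmulimg]
            refine Finset.mem_image.2 ⟨i • P0, hYm, ?_⟩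
            show i • i • P0 = P0
            rw [← mul_smul, hii, one_smul]
          · rw [hmulimg]
            exact Finset.mem_image_of_mem _ hPm
        refine ⟨c, Finset.mem_filter.2 ⟨hi, hstab _ ?_, fun hm' => hfx ?_⟩⟩
        · rw [show m⁻¹ * i * m = m⁻¹ * (i * m) by group, hmulimg, ← heq, ← hmulimg, inv_mul_cancel, hone]
        · have := mul_mem (mul_mem c.out.2 hm') (inv_mem c.out.2)
          rw [← hm, show m * (m⁻¹ * i * m) * m⁻¹ = i by group] at this
          exact (hfixP i).2 this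
      · right
        refine ⟨i • P0, ?_, Finset.mem_filter.2 ⟨hi, rfl⟩⟩
        simp only [hD, Finset.mem_sdiff, Finset.mem_univ, true_and, Finset.mem_insert, not_or]
        exact ⟨hfx, hC⟩
    have hout : ∀ c, (Sout c).card = 48 := by
      intro c
      set m : G := ((c.out : L') : G) with hm
      have hbij : (Sout c).card = ((I.filter fun i => i ∈ L).filter fun i => i ∉ L').card := by
        refine Finset.card_bij' (fun i _ => m⁻¹ * i * m) (fun t _ => m * t * m⁻¹) ?_ ?_ ?_ ?_
        · intro i hi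
          simp only [hSout, Finset.mem_filter, hmemI] at hi ⊢
          exact ⟨⟨by rw [← hi.1, ← Invol.orderOf_conj_eq m⁻¹ i, inv_inv], hi.2.1⟩, hi.2.2⟩
        · intro t ht
          simp only [hSout, Finset.mem_filter, hmemI] at ht ⊢
          exact ⟨by rw [Invol.orderOf_conj_eq, ht.1.1],
            by simpa [← hm, mul_assoc] using ht.1.2, by simpa [← hm, mul_assoc] using ht.2⟩
        · intro i _; group
        · intro t _; group
      have h1 := Finset.card_filter_add_card_filter_not (s := I.filter fun i => i ∈ L) (fun i => i ∈ L')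
      have h2 : ((I.filter fun i => i ∈ L).filter fun i => i ∈ L').card = 27 := by
        rw [Finset.filter_filter, ← h.card_invol_T, ← hcount]
        congr 1
        ext i
        simp only [Finset.mem_filter]
        rw [← hH, hHL']
        exact ⟨fun hh => ⟨hh.1, hh.2.1, hh.2.2⟩, fun hh => ⟨hh.1, hh.2.1, hh.2.2⟩⟩
      rw [hcount L, h.symm.card_invol, h2] at h1
      omega
    have hin : ∀ Y ∈ D, (Sin Y).card ≤ 14 := by
      intro Y hY
      rcases (Sin Y).eq_empty_or_nonempty with e | ⟨u, hu⟩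
      · simp [e]
      simp only [hSin, Finset.mem_filter, hmemI] at hu
      refine le_trans ?_ (hK14 Y hY u hu.1 hu.2)
      have huu : u * u = 1 := Invol.mul_self_of_orderOf_two hu.1
      have huY : u • Y = P0 := by rw [← hu.2, ← mul_smul, huu, one_smul]
      refine le_trans ?_ (Nat.card_le_card_of_injective (α := {i : G // i ∈ Sin Y})
        (fun i => (⟨u * i, ⟨?_, ?_⟩, ?_⟩ : {k : G // k ∈ L' ⊓ MulAction.stabilizer G Y ∧ u * k * u⁻¹ = k⁻¹}))
          fun i j e => ?_)
      · rw [Nat.card_eq_fintype_card, Fintype.card_coe]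
      · obtain ⟨i, hi⟩ := i
        simp only [hSin, Finset.mem_filter] at hi
        show u * i ∈ L'
        rw [← hfixP, mul_smul, hi.2, huY]
      · obtain ⟨i, hi⟩ := i
        simp only [hSin, Finset.mem_filter, hmemI] at hi
        show (u * i) • Y = Y
        rw [mul_smul]
        have hiY : i • Y = P0 := by rw [← hi.2, ← mul_smul, Invol.mul_self_of_orderOf_two hi.1, one_smul]
        rw [hiY, hu.2]
      · obtain ⟨i, hi⟩ := i
        simp only [hSin, Finset.mem_filter, hmemI] at hi
        show u * (u * i) * u⁻¹ = (u * i)⁻¹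
        rw [← mul_assoc, huu, one_mul, inv_eq_of_mul_eq_one_right huu, mul_inv_rev, inv_eq_of_mul_eq_one_right huu,
          inv_eq_of_mul_eq_one_right (Invol.mul_self_of_orderOf_two hi.1)]
      · exact Subtype.ext (mul_left_cancel (congrArg Subtype.val e :))
    have h1 := (Finset.card_le_card hsplit).trans ((Finset.card_union_le _ _).trans
      (Nat.add_le_add_left ((Finset.card_union_le _ _).trans (Nat.add_le_add (Finset.card_biUnion_le)
        (Finset.card_biUnion_le))) _))
    rw [hN, show (I.filter fun i => i • P0 = P0).card = 75 from h75 1,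
      Finset.sum_congr rfl fun c _ => hout c, Finset.sum_const, Finset.card_univ, h5', smul_eq_mul] at h1
    have h2 : ∑ Y ∈ D, (Sin Y).card ≤ D.card * 14 := by
      refine (Finset.sum_le_sum hin).trans ?_
      rw [Finset.sum_const, smul_eq_mul]
    omega
  have hn21 : n = 21 := by omega
  have hG' : Nat.card G = 60480 := by rw [hGn, hn21]
  have hcover : ∀ Z : G ⧸ L', Z ≠ P0 → Z ∈ C₀ := by
    intro Z hZ
    by_contra hc
    have hZD : Z ∈ D := by
      simp only [hD, Finset.mem_sdiff, Finset.mem_univ, true_and, Finset.mem_insert, not_or]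
      exact ⟨hZ, hc⟩
    have := Finset.card_pos.2 ⟨Z, hZD⟩
    omega
  have hα : Fintype.card (G ⧸ L') = 21 := by rw [← Nat.card_eq_fintype_card, ← hn, hn21]
  refine no_plane hα (B := Set.range img) ⟨?_, ?_⟩ hG' ?_ ?_
  · rintro _ ⟨g, rfl⟩
    exact hcardimg g
  · intro s hs
    obtain ⟨X, Y, hXY, rfl⟩ := Finset.card_eq_two.1 hs
    obtain ⟨g, rfl⟩ := QuotientGroup.mk_surjective X
    have hZ : g⁻¹ • Y ≠ P0 := fun e => hXY (by rw [← smul_inv_smul g Y, e, hP0g])
    have hZC := hcover _ hZ
    rw [hC₀, Finset.mem_image] at hZC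
    obtain ⟨⟨c, Z⟩, hZm, hZe⟩ := hZC
    simp only [Finset.mem_product, Finset.mem_univ, true_and, Finset.mem_erase] at hZm
    change ((c.out : L') : G) • Z = g⁻¹ • Y at hZe
    have hXm : (QuotientGroup.mk g : G ⧸ L') ∈ img (g * (c.out : L')) := by
      rw [hmulimg, ← hP0g g]
      exact Finset.mem_image_of_mem _ (by rw [hmemimg, (hfixP _).2 (inv_mem c.out.2)]; exact hP0l)
    have hYm : Y ∈ img (g * (c.out : L')) := by
      rw [← smul_inv_smul g Y, ← hZe, hmulimg]
      exact Finset.mem_image_of_mem _ (Finset.mem_image_of_mem _ hZm.2)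
    refine ⟨img (g * (c.out : L')), ⟨⟨_, rfl⟩, ?_⟩, ?_⟩
    · simp only [Finset.insert_subset_iff, Finset.singleton_subset_iff]
      exact ⟨hXm, hYm⟩
    · rintro _ ⟨⟨g', rfl⟩, hsub⟩
      simp only [Finset.insert_subset_iff, Finset.singleton_subset_iff] at hsub
      exact huniq _ _ _ _ hXY hsub.1 hsub.2 hXm hYm
  · by_contra hc
    push Not at hc
    have : Fintype.card (G ⧸ L') ≤ 1 := Fintype.card_le_one_iff.2 fun a b => by
      obtain ⟨g, rfl⟩ := QuotientGroup.mk_surjective a
      obtain ⟨k, rfl⟩ := QuotientGroup.mk_surjective b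
      rw [← hP0g g, ← hP0g k, hc, hc]
    omega
  · rintro g _ ⟨k, rfl⟩
    exact ⟨g * k, hmulimg g k⟩

end Cfsg.Agent.Fus.PlaneCentNine
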