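import Mathlib
import Cfsg.Agent.Lib.Fus.PlaneCentNine.Plane

/-!
A simple group whose Sylow 2-subgroup has two elementary abelian subgroups of order 16 has no involution
centraliser of order 192.
-/

set_option autoImplicit false
set_option linter.unusedSectionVars false

namespace Cfsg.Agent.Fus.PlaneCentNine

open Subgroup

/-- No simple group has a Sylow 2-subgroup of order 64 with two elementary abelian subgroups of order 16 meeting
in its centre, one class of involutions and centraliser of an involution of order 192. -/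
theorem false_of_centralizer_192 {G : Type*} [Group G] [Finite G] [IsSimpleGroup G] (T : Sylow 2 G)
    (V₁ V₂ : Subgroup G) (h₁ : V₁ ≤ (T : Subgroup G)) (h₂ : V₂ ≤ (T : Subgroup G)) (hc₁ : Nat.card V₁ = 16)
    (hc₂ : Nat.card V₂ = 16) (hs₁ : ∀ v ∈ V₁, v * v = 1) (hs₂ : ∀ v ∈ V₂, v * v = 1)
    (hW : Nat.card ↥(V₁ ⊓ V₂) = 4) (hT : Nat.card (T : Subgroup G) = 64)
    (hcen : ∀ w ∈ V₁ ⊓ V₂, ∀ x ∈ (T : Subgroup G), x * w = w * x)
    (hinv : ∀ x ∈ (T : Subgroup G), x * x = 1 → x ∈ V₁ ∨ x ∈ V₂)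
    {z : G} (hz : z ∈ V₁ ⊓ V₂) (hz1 : z ≠ 1) (hconj : ∀ i : G, orderOf i = 2 → ∃ g : G, g * z * g⁻¹ = i)
    (hC : Nat.card (centralizer ({z} : Set G)) = 192)
    (hn : centralizer ({z} : Set G) ≤ normalizer ((T : Subgroup G) : Set G))
    {ρ : G} (hρz : ρ * z = z * ρ) (hρ3 : ρ ^ 3 = 1)
    (hρ : ∀ v ∈ (T : Subgroup G), ρ * v = v * ρ → v ∈ V₁ ⊓ V₂) : False :=
  Hyp.false (T := T) (V₁ := V₁) (V₂ := V₂) (z := z) (ρ := ρ)
    ⟨h₁, h₂, hc₁, hc₂, hs₁, hs₂, hW, hT, hcen, hinv, hz, hz1, hconj, hC, hn, hρz, hρ3, hρ⟩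

end Cfsg.Agent.Fus.PlaneCentNine
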